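/-
Bit matrices of the generators of the triple cover of J3 and straight-line programs.
-/
import Cfsg.Agent.H57.Rep2

set_option autoImplicit false
set_option maxRecDepth 100000

namespace Cfsg.Agent.H57.J3

noncomputable def tabA : List (List ℕ) :=
  [[nat_lit 1, nat_lit 2, nat_lit 4, nat_lit 8, nat_lit 16, nat_lit 32, nat_lit 64, nat_lit 128, nat_lit 256, nat_lit 512, nat_lit 1024, nat_lit 2048, nat_lit 4096, nat_lit 8192, nat_lit 16384, nat_lit 32768, nat_lit 65536, nat_lit 131072],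
  [nat_lit 1, nat_lit 2, nat_lit 8, nat_lit 12, nat_lit 48, nat_lit 16, nat_lit 64, nat_lit 128, nat_lit 512, nat_lit 768, nat_lit 3072, nat_lit 1024, nat_lit 4096, nat_lit 8192, nat_lit 32768, nat_lit 49152, nat_lit 196608, nat_lit 65536],
  [nat_lit 1, nat_lit 2, nat_lit 12, nat_lit 4, nat_lit 32, nat_lit 48, nat_lit 64, nat_lit 128, nat_lit 768, nat_lit 256, nat_lit 2048, nat_lit 3072, nat_lit 4096, nat_lit 8192, nat_lit 49152, nat_lit 16384, nat_lit 131072, nat_lit 196608],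
  [nat_lit 1, nat_lit 2, nat_lit 4, nat_lit 8, nat_lit 16, nat_lit 32, nat_lit 128, nat_lit 192, nat_lit 512, nat_lit 768, nat_lit 2048, nat_lit 3072, nat_lit 12288, nat_lit 4096, nat_lit 49152, nat_lit 16384, nat_lit 196608, nat_lit 65536],
  [nat_lit 1, nat_lit 2, nat_lit 8, nat_lit 12, nat_lit 48, nat_lit 16, nat_lit 128, nat_lit 192, nat_lit 768, nat_lit 256, nat_lit 1024, nat_lit 2048, nat_lit 12288, nat_lit 4096, nat_lit 16384, nat_lit 32768, nat_lit 131072, nat_lit 196608],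
  [nat_lit 1, nat_lit 2, nat_lit 12, nat_lit 4, nat_lit 32, nat_lit 48, nat_lit 128, nat_lit 192, nat_lit 256, nat_lit 512, nat_lit 3072, nat_lit 1024, nat_lit 12288, nat_lit 4096, nat_lit 32768, nat_lit 49152, nat_lit 65536, nat_lit 131072],
  [nat_lit 1, nat_lit 2, nat_lit 4, nat_lit 8, nat_lit 16, nat_lit 32, nat_lit 192, nat_lit 64, nat_lit 768, nat_lit 256, nat_lit 3072, nat_lit 1024, nat_lit 8192, nat_lit 12288, nat_lit 32768, nat_lit 49152, nat_lit 131072, nat_lit 196608],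
  [nat_lit 1, nat_lit 2, nat_lit 8, nat_lit 12, nat_lit 48, nat_lit 16, nat_lit 192, nat_lit 64, nat_lit 256, nat_lit 512, nat_lit 2048, nat_lit 3072, nat_lit 8192, nat_lit 12288, nat_lit 49152, nat_lit 16384, nat_lit 65536, nat_lit 131072],
  [nat_lit 1, nat_lit 2, nat_lit 12, nat_lit 4, nat_lit 32, nat_lit 48, nat_lit 192, nat_lit 64, nat_lit 512, nat_lit 768, nat_lit 1024, nat_lit 2048, nat_lit 8192, nat_lit 12288, nat_lit 16384, nat_lit 32768, nat_lit 196608, nat_lit 65536]]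

noncomputable def invA : List (List ℕ) :=
  [[nat_lit 1, nat_lit 2, nat_lit 4, nat_lit 8, nat_lit 16, nat_lit 32, nat_lit 64, nat_lit 128, nat_lit 256, nat_lit 512, nat_lit 1024, nat_lit 2048, nat_lit 4096, nat_lit 8192, nat_lit 16384, nat_lit 32768, nat_lit 65536, nat_lit 131072],
  [nat_lit 1, nat_lit 2, nat_lit 12, nat_lit 4, nat_lit 32, nat_lit 48, nat_lit 64, nat_lit 128, nat_lit 768, nat_lit 256, nat_lit 2048, nat_lit 3072, nat_lit 4096, nat_lit 8192, nat_lit 49152, nat_lit 16384, nat_lit 131072, nat_lit 196608],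
  [nat_lit 1, nat_lit 2, nat_lit 8, nat_lit 12, nat_lit 48, nat_lit 16, nat_lit 64, nat_lit 128, nat_lit 512, nat_lit 768, nat_lit 3072, nat_lit 1024, nat_lit 4096, nat_lit 8192, nat_lit 32768, nat_lit 49152, nat_lit 196608, nat_lit 65536],
  [nat_lit 1, nat_lit 2, nat_lit 4, nat_lit 8, nat_lit 16, nat_lit 32, nat_lit 192, nat_lit 64, nat_lit 768, nat_lit 256, nat_lit 3072, nat_lit 1024, nat_lit 8192, nat_lit 12288, nat_lit 32768, nat_lit 49152, nat_lit 131072, nat_lit 196608],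
  [nat_lit 1, nat_lit 2, nat_lit 12, nat_lit 4, nat_lit 32, nat_lit 48, nat_lit 192, nat_lit 64, nat_lit 512, nat_lit 768, nat_lit 1024, nat_lit 2048, nat_lit 8192, nat_lit 12288, nat_lit 16384, nat_lit 32768, nat_lit 196608, nat_lit 65536],
  [nat_lit 1, nat_lit 2, nat_lit 8, nat_lit 12, nat_lit 48, nat_lit 16, nat_lit 192, nat_lit 64, nat_lit 256, nat_lit 512, nat_lit 2048, nat_lit 3072, nat_lit 8192, nat_lit 12288, nat_lit 49152, nat_lit 16384, nat_lit 65536, nat_lit 131072],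
  [nat_lit 1, nat_lit 2, nat_lit 4, nat_lit 8, nat_lit 16, nat_lit 32, nat_lit 128, nat_lit 192, nat_lit 512, nat_lit 768, nat_lit 2048, nat_lit 3072, nat_lit 12288, nat_lit 4096, nat_lit 49152, nat_lit 16384, nat_lit 196608, nat_lit 65536],
  [nat_lit 1, nat_lit 2, nat_lit 12, nat_lit 4, nat_lit 32, nat_lit 48, nat_lit 128, nat_lit 192, nat_lit 256, nat_lit 512, nat_lit 3072, nat_lit 1024, nat_lit 12288, nat_lit 4096, nat_lit 32768, nat_lit 49152, nat_lit 65536, nat_lit 131072],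
  [nat_lit 1, nat_lit 2, nat_lit 8, nat_lit 12, nat_lit 48, nat_lit 16, nat_lit 128, nat_lit 192, nat_lit 768, nat_lit 256, nat_lit 1024, nat_lit 2048, nat_lit 12288, nat_lit 4096, nat_lit 16384, nat_lit 32768, nat_lit 131072, nat_lit 196608]]

noncomputable def tabE : List (List ℕ) :=
  [[nat_lit 1, nat_lit 2, nat_lit 8, nat_lit 12, nat_lit 32, nat_lit 48, nat_lit 128, nat_lit 192, nat_lit 768, nat_lit 256, nat_lit 3072, nat_lit 1024, nat_lit 8192, nat_lit 12288, nat_lit 49152, nat_lit 16384, nat_lit 196608, nat_lit 65536],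
  [nat_lit 2, nat_lit 3, nat_lit 4, nat_lit 8, nat_lit 32, nat_lit 48, nat_lit 192, nat_lit 64, nat_lit 512, nat_lit 768, nat_lit 3072, nat_lit 1024, nat_lit 12288, nat_lit 4096, nat_lit 32768, nat_lit 49152, nat_lit 196608, nat_lit 65536],
  [nat_lit 2, nat_lit 3, nat_lit 8, nat_lit 12, nat_lit 16, nat_lit 32, nat_lit 192, nat_lit 64, nat_lit 768, nat_lit 256, nat_lit 2048, nat_lit 3072, nat_lit 12288, nat_lit 4096, nat_lit 49152, nat_lit 16384, nat_lit 131072, nat_lit 196608],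
  [nat_lit 2, nat_lit 3, nat_lit 12, nat_lit 4, nat_lit 48, nat_lit 16, nat_lit 64, nat_lit 128, nat_lit 512, nat_lit 768, nat_lit 2048, nat_lit 3072, nat_lit 8192, nat_lit 12288, nat_lit 49152, nat_lit 16384, nat_lit 196608, nat_lit 65536],
  [nat_lit 3, nat_lit 1, nat_lit 8, nat_lit 12, nat_lit 48, nat_lit 16, nat_lit 128, nat_lit 192, nat_lit 256, nat_lit 512, nat_lit 2048, nat_lit 3072, nat_lit 12288, nat_lit 4096, nat_lit 32768, nat_lit 49152, nat_lit 196608, nat_lit 65536],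
  [nat_lit 3, nat_lit 1, nat_lit 12, nat_lit 4, nat_lit 32, nat_lit 48, nat_lit 128, nat_lit 192, nat_lit 512, nat_lit 768, nat_lit 1024, nat_lit 2048, nat_lit 12288, nat_lit 4096, nat_lit 49152, nat_lit 16384, nat_lit 131072, nat_lit 196608],
  [nat_lit 2, nat_lit 3, nat_lit 12, nat_lit 4, nat_lit 48, nat_lit 16, nat_lit 128, nat_lit 192, nat_lit 768, nat_lit 256, nat_lit 3072, nat_lit 1024, nat_lit 4096, nat_lit 8192, nat_lit 32768, nat_lit 49152, nat_lit 131072, nat_lit 196608],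
  [nat_lit 3, nat_lit 1, nat_lit 8, nat_lit 12, nat_lit 48, nat_lit 16, nat_lit 192, nat_lit 64, nat_lit 512, nat_lit 768, nat_lit 3072, nat_lit 1024, nat_lit 8192, nat_lit 12288, nat_lit 16384, nat_lit 32768, nat_lit 131072, nat_lit 196608],
  [nat_lit 3, nat_lit 1, nat_lit 12, nat_lit 4, nat_lit 32, nat_lit 48, nat_lit 192, nat_lit 64, nat_lit 768, nat_lit 256, nat_lit 2048, nat_lit 3072, nat_lit 8192, nat_lit 12288, nat_lit 32768, nat_lit 49152, nat_lit 65536, nat_lit 131072]]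

noncomputable def invE : List (List ℕ) :=
  [[nat_lit 1, nat_lit 2, nat_lit 12, nat_lit 4, nat_lit 48, nat_lit 16, nat_lit 192, nat_lit 64, nat_lit 512, nat_lit 768, nat_lit 2048, nat_lit 3072, nat_lit 12288, nat_lit 4096, nat_lit 32768, nat_lit 49152, nat_lit 131072, nat_lit 196608],
  [nat_lit 3, nat_lit 1, nat_lit 4, nat_lit 8, nat_lit 48, nat_lit 16, nat_lit 128, nat_lit 192, nat_lit 768, nat_lit 256, nat_lit 2048, nat_lit 3072, nat_lit 8192, nat_lit 12288, nat_lit 49152, nat_lit 16384, nat_lit 131072, nat_lit 196608],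
  [nat_lit 3, nat_lit 1, nat_lit 12, nat_lit 4, nat_lit 16, nat_lit 32, nat_lit 128, nat_lit 192, nat_lit 512, nat_lit 768, nat_lit 3072, nat_lit 1024, nat_lit 8192, nat_lit 12288, nat_lit 32768, nat_lit 49152, nat_lit 196608, nat_lit 65536],
  [nat_lit 3, nat_lit 1, nat_lit 8, nat_lit 12, nat_lit 32, nat_lit 48, nat_lit 64, nat_lit 128, nat_lit 768, nat_lit 256, nat_lit 3072, nat_lit 1024, nat_lit 12288, nat_lit 4096, nat_lit 32768, nat_lit 49152, nat_lit 131072, nat_lit 196608],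
  [nat_lit 2, nat_lit 3, nat_lit 12, nat_lit 4, nat_lit 32, nat_lit 48, nat_lit 192, nat_lit 64, nat_lit 256, nat_lit 512, nat_lit 3072, nat_lit 1024, nat_lit 8192, nat_lit 12288, nat_lit 49152, nat_lit 16384, nat_lit 131072, nat_lit 196608],
  [nat_lit 2, nat_lit 3, nat_lit 8, nat_lit 12, nat_lit 48, nat_lit 16, nat_lit 192, nat_lit 64, nat_lit 768, nat_lit 256, nat_lit 1024, nat_lit 2048, nat_lit 8192, nat_lit 12288, nat_lit 32768, nat_lit 49152, nat_lit 196608, nat_lit 65536],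
  [nat_lit 3, nat_lit 1, nat_lit 8, nat_lit 12, nat_lit 32, nat_lit 48, nat_lit 192, nat_lit 64, nat_lit 512, nat_lit 768, nat_lit 2048, nat_lit 3072, nat_lit 4096, nat_lit 8192, nat_lit 49152, nat_lit 16384, nat_lit 196608, nat_lit 65536],
  [nat_lit 2, nat_lit 3, nat_lit 12, nat_lit 4, nat_lit 32, nat_lit 48, nat_lit 128, nat_lit 192, nat_lit 768, nat_lit 256, nat_lit 2048, nat_lit 3072, nat_lit 12288, nat_lit 4096, nat_lit 16384, nat_lit 32768, nat_lit 196608, nat_lit 65536],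
  [nat_lit 2, nat_lit 3, nat_lit 8, nat_lit 12, nat_lit 48, nat_lit 16, nat_lit 128, nat_lit 192, nat_lit 512, nat_lit 768, nat_lit 3072, nat_lit 1024, nat_lit 12288, nat_lit 4096, nat_lit 49152, nat_lit 16384, nat_lit 65536, nat_lit 131072]]

noncomputable def tabD : List (List ℕ) :=
  [[nat_lit 1, nat_lit 2, nat_lit 4, nat_lit 8, nat_lit 16, nat_lit 32, nat_lit 64, nat_lit 128, nat_lit 256, nat_lit 512, nat_lit 1024, nat_lit 2048, nat_lit 4096, nat_lit 8192, nat_lit 16384, nat_lit 32768, nat_lit 65536, nat_lit 131072],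
  [nat_lit 16, nat_lit 32, nat_lit 1, nat_lit 2, nat_lit 4, nat_lit 8, nat_lit 1024, nat_lit 2048, nat_lit 64, nat_lit 128, nat_lit 768, nat_lit 256, nat_lit 65536, nat_lit 131072, nat_lit 4096, nat_lit 8192, nat_lit 32768, nat_lit 49152],
  [nat_lit 4, nat_lit 8, nat_lit 16, nat_lit 32, nat_lit 1, nat_lit 2, nat_lit 256, nat_lit 512, nat_lit 2048, nat_lit 3072, nat_lit 64, nat_lit 128, nat_lit 16384, nat_lit 32768, nat_lit 196608, nat_lit 65536, nat_lit 4096, nat_lit 8192],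
  [nat_lit 4096, nat_lit 8192, nat_lit 16384, nat_lit 32768, nat_lit 65536, nat_lit 131072, nat_lit 1, nat_lit 2, nat_lit 4, nat_lit 8, nat_lit 16, nat_lit 32, nat_lit 64, nat_lit 128, nat_lit 512, nat_lit 768, nat_lit 3072, nat_lit 1024],
  [nat_lit 65536, nat_lit 131072, nat_lit 12288, nat_lit 4096, nat_lit 16384, nat_lit 32768, nat_lit 32, nat_lit 48, nat_lit 1, nat_lit 2, nat_lit 4, nat_lit 8, nat_lit 1024, nat_lit 2048, nat_lit 64, nat_lit 128, nat_lit 256, nat_lit 512],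
  [nat_lit 16384, nat_lit 32768, nat_lit 65536, nat_lit 131072, nat_lit 8192, nat_lit 12288, nat_lit 12, nat_lit 4, nat_lit 16, nat_lit 32, nat_lit 1, nat_lit 2, nat_lit 256, nat_lit 512, nat_lit 1024, nat_lit 2048, nat_lit 64, nat_lit 128],
  [nat_lit 64, nat_lit 128, nat_lit 256, nat_lit 512, nat_lit 1024, nat_lit 2048, nat_lit 4096, nat_lit 8192, nat_lit 49152, nat_lit 16384, nat_lit 131072, nat_lit 196608, nat_lit 1, nat_lit 2, nat_lit 4, nat_lit 8, nat_lit 16, nat_lit 32],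
  [nat_lit 1024, nat_lit 2048, nat_lit 128, nat_lit 192, nat_lit 256, nat_lit 512, nat_lit 65536, nat_lit 131072, nat_lit 4096, nat_lit 8192, nat_lit 16384, nat_lit 32768, nat_lit 48, nat_lit 16, nat_lit 1, nat_lit 2, nat_lit 4, nat_lit 8],
  [nat_lit 256, nat_lit 512, nat_lit 1024, nat_lit 2048, nat_lit 192, nat_lit 64, nat_lit 16384, nat_lit 32768, nat_lit 65536, nat_lit 131072, nat_lit 4096, nat_lit 8192, nat_lit 8, nat_lit 12, nat_lit 16, nat_lit 32, nat_lit 1, nat_lit 2]]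

noncomputable def invD : List (List ℕ) :=
  [[nat_lit 1, nat_lit 2, nat_lit 4, nat_lit 8, nat_lit 16, nat_lit 32, nat_lit 64, nat_lit 128, nat_lit 256, nat_lit 512, nat_lit 1024, nat_lit 2048, nat_lit 4096, nat_lit 8192, nat_lit 16384, nat_lit 32768, nat_lit 65536, nat_lit 131072],
  [nat_lit 4, nat_lit 8, nat_lit 16, nat_lit 32, nat_lit 1, nat_lit 2, nat_lit 256, nat_lit 512, nat_lit 2048, nat_lit 3072, nat_lit 64, nat_lit 128, nat_lit 16384, nat_lit 32768, nat_lit 196608, nat_lit 65536, nat_lit 4096, nat_lit 8192],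
  [nat_lit 16, nat_lit 32, nat_lit 1, nat_lit 2, nat_lit 4, nat_lit 8, nat_lit 1024, nat_lit 2048, nat_lit 64, nat_lit 128, nat_lit 768, nat_lit 256, nat_lit 65536, nat_lit 131072, nat_lit 4096, nat_lit 8192, nat_lit 32768, nat_lit 49152],
  [nat_lit 64, nat_lit 128, nat_lit 256, nat_lit 512, nat_lit 1024, nat_lit 2048, nat_lit 4096, nat_lit 8192, nat_lit 49152, nat_lit 16384, nat_lit 131072, nat_lit 196608, nat_lit 1, nat_lit 2, nat_lit 4, nat_lit 8, nat_lit 16, nat_lit 32],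
  [nat_lit 256, nat_lit 512, nat_lit 1024, nat_lit 2048, nat_lit 192, nat_lit 64, nat_lit 16384, nat_lit 32768, nat_lit 65536, nat_lit 131072, nat_lit 4096, nat_lit 8192, nat_lit 8, nat_lit 12, nat_lit 16, nat_lit 32, nat_lit 1, nat_lit 2],
  [nat_lit 1024, nat_lit 2048, nat_lit 128, nat_lit 192, nat_lit 256, nat_lit 512, nat_lit 65536, nat_lit 131072, nat_lit 4096, nat_lit 8192, nat_lit 16384, nat_lit 32768, nat_lit 48, nat_lit 16, nat_lit 1, nat_lit 2, nat_lit 4, nat_lit 8],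
  [nat_lit 4096, nat_lit 8192, nat_lit 16384, nat_lit 32768, nat_lit 65536, nat_lit 131072, nat_lit 1, nat_lit 2, nat_lit 4, nat_lit 8, nat_lit 16, nat_lit 32, nat_lit 64, nat_lit 128, nat_lit 512, nat_lit 768, nat_lit 3072, nat_lit 1024],
  [nat_lit 16384, nat_lit 32768, nat_lit 65536, nat_lit 131072, nat_lit 8192, nat_lit 12288, nat_lit 12, nat_lit 4, nat_lit 16, nat_lit 32, nat_lit 1, nat_lit 2, nat_lit 256, nat_lit 512, nat_lit 1024, nat_lit 2048, nat_lit 64, nat_lit 128],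
  [nat_lit 65536, nat_lit 131072, nat_lit 12288, nat_lit 4096, nat_lit 16384, nat_lit 32768, nat_lit 32, nat_lit 48, nat_lit 1, nat_lit 2, nat_lit 4, nat_lit 8, nat_lit 1024, nat_lit 2048, nat_lit 64, nat_lit 128, nat_lit 256, nat_lit 512]]

noncomputable def tabB : List (List ℕ) :=
  [[nat_lit 1, nat_lit 2, nat_lit 4, nat_lit 8, nat_lit 16, nat_lit 32, nat_lit 64, nat_lit 128, nat_lit 256, nat_lit 512, nat_lit 1024, nat_lit 2048, nat_lit 4096, nat_lit 8192, nat_lit 16384, nat_lit 32768, nat_lit 65536, nat_lit 131072],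
  [nat_lit 1, nat_lit 2, nat_lit 64, nat_lit 128, nat_lit 4096, nat_lit 8192, nat_lit 16, nat_lit 32, nat_lit 1024, nat_lit 2048, nat_lit 65536, nat_lit 131072, nat_lit 4, nat_lit 8, nat_lit 256, nat_lit 512, nat_lit 16384, nat_lit 32768],
  [nat_lit 1, nat_lit 2, nat_lit 4096, nat_lit 8192, nat_lit 64, nat_lit 128, nat_lit 4, nat_lit 8, nat_lit 16384, nat_lit 32768, nat_lit 256, nat_lit 512, nat_lit 16, nat_lit 32, nat_lit 65536, nat_lit 131072, nat_lit 1024, nat_lit 2048],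
  [nat_lit 1, nat_lit 2, nat_lit 4, nat_lit 8, nat_lit 16, nat_lit 32, nat_lit 64, nat_lit 128, nat_lit 256, nat_lit 512, nat_lit 1024, nat_lit 2048, nat_lit 4096, nat_lit 8192, nat_lit 16384, nat_lit 32768, nat_lit 65536, nat_lit 131072],
  [nat_lit 1, nat_lit 2, nat_lit 65536, nat_lit 131072, nat_lit 256, nat_lit 512, nat_lit 16384, nat_lit 32768, nat_lit 64, nat_lit 128, nat_lit 16, nat_lit 32, nat_lit 1024, nat_lit 2048, nat_lit 4, nat_lit 8, nat_lit 4096, nat_lit 8192],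
  [nat_lit 1, nat_lit 2, nat_lit 1024, nat_lit 2048, nat_lit 16384, nat_lit 32768, nat_lit 65536, nat_lit 131072, nat_lit 4, nat_lit 8, nat_lit 64, nat_lit 128, nat_lit 256, nat_lit 512, nat_lit 4096, nat_lit 8192, nat_lit 16, nat_lit 32],
  [nat_lit 1, nat_lit 2, nat_lit 16, nat_lit 32, nat_lit 4, nat_lit 8, nat_lit 4096, nat_lit 8192, nat_lit 65536, nat_lit 131072, nat_lit 16384, nat_lit 32768, nat_lit 64, nat_lit 128, nat_lit 1024, nat_lit 2048, nat_lit 256, nat_lit 512],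
  [nat_lit 1, nat_lit 2, nat_lit 16384, nat_lit 32768, nat_lit 1024, nat_lit 2048, nat_lit 256, nat_lit 512, nat_lit 16, nat_lit 32, nat_lit 4096, nat_lit 8192, nat_lit 65536, nat_lit 131072, nat_lit 64, nat_lit 128, nat_lit 4, nat_lit 8],
  [nat_lit 1, nat_lit 2, nat_lit 256, nat_lit 512, nat_lit 65536, nat_lit 131072, nat_lit 1024, nat_lit 2048, nat_lit 4096, nat_lit 8192, nat_lit 4, nat_lit 8, nat_lit 16384, nat_lit 32768, nat_lit 16, nat_lit 32, nat_lit 64, nat_lit 128]]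

noncomputable def invB : List (List ℕ) :=
  [[nat_lit 1, nat_lit 2, nat_lit 4, nat_lit 8, nat_lit 16, nat_lit 32, nat_lit 64, nat_lit 128, nat_lit 256, nat_lit 512, nat_lit 1024, nat_lit 2048, nat_lit 4096, nat_lit 8192, nat_lit 16384, nat_lit 32768, nat_lit 65536, nat_lit 131072],
  [nat_lit 1, nat_lit 2, nat_lit 4096, nat_lit 8192, nat_lit 64, nat_lit 128, nat_lit 4, nat_lit 8, nat_lit 16384, nat_lit 32768, nat_lit 256, nat_lit 512, nat_lit 16, nat_lit 32, nat_lit 65536, nat_lit 131072, nat_lit 1024, nat_lit 2048],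
  [nat_lit 1, nat_lit 2, nat_lit 64, nat_lit 128, nat_lit 4096, nat_lit 8192, nat_lit 16, nat_lit 32, nat_lit 1024, nat_lit 2048, nat_lit 65536, nat_lit 131072, nat_lit 4, nat_lit 8, nat_lit 256, nat_lit 512, nat_lit 16384, nat_lit 32768],
  [nat_lit 1, nat_lit 2, nat_lit 4, nat_lit 8, nat_lit 16, nat_lit 32, nat_lit 64, nat_lit 128, nat_lit 256, nat_lit 512, nat_lit 1024, nat_lit 2048, nat_lit 4096, nat_lit 8192, nat_lit 16384, nat_lit 32768, nat_lit 65536, nat_lit 131072],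
  [nat_lit 1, nat_lit 2, nat_lit 16384, nat_lit 32768, nat_lit 1024, nat_lit 2048, nat_lit 256, nat_lit 512, nat_lit 16, nat_lit 32, nat_lit 4096, nat_lit 8192, nat_lit 65536, nat_lit 131072, nat_lit 64, nat_lit 128, nat_lit 4, nat_lit 8],
  [nat_lit 1, nat_lit 2, nat_lit 256, nat_lit 512, nat_lit 65536, nat_lit 131072, nat_lit 1024, nat_lit 2048, nat_lit 4096, nat_lit 8192, nat_lit 4, nat_lit 8, nat_lit 16384, nat_lit 32768, nat_lit 16, nat_lit 32, nat_lit 64, nat_lit 128],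
  [nat_lit 1, nat_lit 2, nat_lit 16, nat_lit 32, nat_lit 4, nat_lit 8, nat_lit 4096, nat_lit 8192, nat_lit 65536, nat_lit 131072, nat_lit 16384, nat_lit 32768, nat_lit 64, nat_lit 128, nat_lit 1024, nat_lit 2048, nat_lit 256, nat_lit 512],
  [nat_lit 1, nat_lit 2, nat_lit 65536, nat_lit 131072, nat_lit 256, nat_lit 512, nat_lit 16384, nat_lit 32768, nat_lit 64, nat_lit 128, nat_lit 16, nat_lit 32, nat_lit 1024, nat_lit 2048, nat_lit 4, nat_lit 8, nat_lit 4096, nat_lit 8192],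
  [nat_lit 1, nat_lit 2, nat_lit 1024, nat_lit 2048, nat_lit 16384, nat_lit 32768, nat_lit 65536, nat_lit 131072, nat_lit 4, nat_lit 8, nat_lit 64, nat_lit 128, nat_lit 256, nat_lit 512, nat_lit 4096, nat_lit 8192, nat_lit 16, nat_lit 32]]

noncomputable def tabC : List (List ℕ) :=
  [[nat_lit 1, nat_lit 2, nat_lit 4, nat_lit 8, nat_lit 16, nat_lit 32, nat_lit 64, nat_lit 128, nat_lit 256, nat_lit 512, nat_lit 1024, nat_lit 2048, nat_lit 4096, nat_lit 8192, nat_lit 16384, nat_lit 32768, nat_lit 65536, nat_lit 131072],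
  [nat_lit 1, nat_lit 2, nat_lit 4116, nat_lit 8232, nat_lit 84, nat_lit 168, nat_lit 4176, nat_lit 8352, nat_lit 17664, nat_lit 35328, nat_lit 82176, nat_lit 164352, nat_lit 4164, nat_lit 8328, nat_lit 66816, nat_lit 133632, nat_lit 82944, nat_lit 165888],
  [nat_lit 1, nat_lit 2, nat_lit 84, nat_lit 168, nat_lit 4116, nat_lit 8232, nat_lit 4164, nat_lit 8328, nat_lit 82944, nat_lit 165888, nat_lit 66816, nat_lit 133632, nat_lit 4176, nat_lit 8352, nat_lit 82176, nat_lit 164352, nat_lit 17664, nat_lit 35328],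
  [nat_lit 1, nat_lit 2, nat_lit 4164, nat_lit 8328, nat_lit 4176, nat_lit 8352, nat_lit 4116, nat_lit 8232, nat_lit 66816, nat_lit 133632, nat_lit 17664, nat_lit 35328, nat_lit 84, nat_lit 168, nat_lit 82944, nat_lit 165888, nat_lit 82176, nat_lit 164352],
  [nat_lit 1, nat_lit 2, nat_lit 82176, nat_lit 164352, nat_lit 66816, nat_lit 133632, nat_lit 82944, nat_lit 165888, nat_lit 4116, nat_lit 8232, nat_lit 4176, nat_lit 8352, nat_lit 17664, nat_lit 35328, nat_lit 4164, nat_lit 8328, nat_lit 84, nat_lit 168],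
  [nat_lit 1, nat_lit 2, nat_lit 17664, nat_lit 35328, nat_lit 82944, nat_lit 165888, nat_lit 82176, nat_lit 164352, nat_lit 4164, nat_lit 8328, nat_lit 4116, nat_lit 8232, nat_lit 66816, nat_lit 133632, nat_lit 84, nat_lit 168, nat_lit 4176, nat_lit 8352],
  [nat_lit 1, nat_lit 2, nat_lit 4176, nat_lit 8352, nat_lit 4164, nat_lit 8328, nat_lit 84, nat_lit 168, nat_lit 82176, nat_lit 164352, nat_lit 82944, nat_lit 165888, nat_lit 4116, nat_lit 8232, nat_lit 17664, nat_lit 35328, nat_lit 66816, nat_lit 133632],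
  [nat_lit 1, nat_lit 2, nat_lit 82944, nat_lit 165888, nat_lit 17664, nat_lit 35328, nat_lit 66816, nat_lit 133632, nat_lit 4176, nat_lit 8352, nat_lit 84, nat_lit 168, nat_lit 82176, nat_lit 164352, nat_lit 4116, nat_lit 8232, nat_lit 4164, nat_lit 8328],
  [nat_lit 1, nat_lit 2, nat_lit 66816, nat_lit 133632, nat_lit 82176, nat_lit 164352, nat_lit 17664, nat_lit 35328, nat_lit 84, nat_lit 168, nat_lit 4164, nat_lit 8328, nat_lit 82944, nat_lit 165888, nat_lit 4176, nat_lit 8352, nat_lit 4116, nat_lit 8232]]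

noncomputable def invC : List (List ℕ) :=
  [[nat_lit 1, nat_lit 2, nat_lit 4, nat_lit 8, nat_lit 16, nat_lit 32, nat_lit 64, nat_lit 128, nat_lit 256, nat_lit 512, nat_lit 1024, nat_lit 2048, nat_lit 4096, nat_lit 8192, nat_lit 16384, nat_lit 32768, nat_lit 65536, nat_lit 131072],
  [nat_lit 1, nat_lit 2, nat_lit 4116, nat_lit 8232, nat_lit 84, nat_lit 168, nat_lit 4176, nat_lit 8352, nat_lit 17664, nat_lit 35328, nat_lit 82176, nat_lit 164352, nat_lit 4164, nat_lit 8328, nat_lit 66816, nat_lit 133632, nat_lit 82944, nat_lit 165888],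
  [nat_lit 1, nat_lit 2, nat_lit 84, nat_lit 168, nat_lit 4116, nat_lit 8232, nat_lit 4164, nat_lit 8328, nat_lit 82944, nat_lit 165888, nat_lit 66816, nat_lit 133632, nat_lit 4176, nat_lit 8352, nat_lit 82176, nat_lit 164352, nat_lit 17664, nat_lit 35328],
  [nat_lit 1, nat_lit 2, nat_lit 4164, nat_lit 8328, nat_lit 4176, nat_lit 8352, nat_lit 4116, nat_lit 8232, nat_lit 66816, nat_lit 133632, nat_lit 17664, nat_lit 35328, nat_lit 84, nat_lit 168, nat_lit 82944, nat_lit 165888, nat_lit 82176, nat_lit 164352],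
  [nat_lit 1, nat_lit 2, nat_lit 82176, nat_lit 164352, nat_lit 66816, nat_lit 133632, nat_lit 82944, nat_lit 165888, nat_lit 4116, nat_lit 8232, nat_lit 4176, nat_lit 8352, nat_lit 17664, nat_lit 35328, nat_lit 4164, nat_lit 8328, nat_lit 84, nat_lit 168],
  [nat_lit 1, nat_lit 2, nat_lit 17664, nat_lit 35328, nat_lit 82944, nat_lit 165888, nat_lit 82176, nat_lit 164352, nat_lit 4164, nat_lit 8328, nat_lit 4116, nat_lit 8232, nat_lit 66816, nat_lit 133632, nat_lit 84, nat_lit 168, nat_lit 4176, nat_lit 8352],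
  [nat_lit 1, nat_lit 2, nat_lit 4176, nat_lit 8352, nat_lit 4164, nat_lit 8328, nat_lit 84, nat_lit 168, nat_lit 82176, nat_lit 164352, nat_lit 82944, nat_lit 165888, nat_lit 4116, nat_lit 8232, nat_lit 17664, nat_lit 35328, nat_lit 66816, nat_lit 133632],
  [nat_lit 1, nat_lit 2, nat_lit 82944, nat_lit 165888, nat_lit 17664, nat_lit 35328, nat_lit 66816, nat_lit 133632, nat_lit 4176, nat_lit 8352, nat_lit 84, nat_lit 168, nat_lit 82176, nat_lit 164352, nat_lit 4116, nat_lit 8232, nat_lit 4164, nat_lit 8328],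
  [nat_lit 1, nat_lit 2, nat_lit 66816, nat_lit 133632, nat_lit 82176, nat_lit 164352, nat_lit 17664, nat_lit 35328, nat_lit 84, nat_lit 168, nat_lit 4164, nat_lit 8328, nat_lit 82944, nat_lit 165888, nat_lit 4176, nat_lit 8352, nat_lit 4116, nat_lit 8232]]

noncomputable def oD : List ℕ :=
  [nat_lit 4096, nat_lit 8192, nat_lit 16384, nat_lit 32768, nat_lit 65536, nat_lit 131072, nat_lit 1, nat_lit 2, nat_lit 4, nat_lit 8, nat_lit 16, nat_lit 32, nat_lit 64, nat_lit 128, nat_lit 512, nat_lit 768, nat_lit 3072, nat_lit 1024]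

noncomputable def oB : List ℕ :=
  [nat_lit 1, nat_lit 2, nat_lit 65536, nat_lit 131072, nat_lit 256, nat_lit 512, nat_lit 16384, nat_lit 32768, nat_lit 64, nat_lit 128, nat_lit 16, nat_lit 32, nat_lit 1024, nat_lit 2048, nat_lit 4, nat_lit 8, nat_lit 4096, nat_lit 8192]

noncomputable def oC : List ℕ :=
  [nat_lit 1, nat_lit 2, nat_lit 4164, nat_lit 8328, nat_lit 4176, nat_lit 8352, nat_lit 4116, nat_lit 8232, nat_lit 66816, nat_lit 133632, nat_lit 17664, nat_lit 35328, nat_lit 84, nat_lit 168, nat_lit 82944, nat_lit 165888, nat_lit 82176, nat_lit 164352]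

noncomputable def oE : List ℕ :=
  [nat_lit 1, nat_lit 2, nat_lit 8, nat_lit 12, nat_lit 32, nat_lit 48, nat_lit 128, nat_lit 192, nat_lit 768, nat_lit 256, nat_lit 3072, nat_lit 1024, nat_lit 8192, nat_lit 12288, nat_lit 49152, nat_lit 16384, nat_lit 196608, nat_lit 65536]

noncomputable def x1 : List ℕ :=
  [nat_lit 212388, nat_lit 71416, nat_lit 106914, nat_lit 193267, nat_lit 106582, nat_lit 192683, nat_lit 208226, nat_lit 79539, nat_lit 18486, nat_lit 35867, nat_lit 224309, nat_lit 111642, nat_lit 118587, nat_lit 148765, nat_lit 88734, nat_lit 176103, nat_lit 58392, nat_lit 30764]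

noncomputable def x2 : List ℕ :=
  [nat_lit 85681, nat_lit 165842, nat_lit 64914, nat_lit 22243, nat_lit 112456, nat_lit 186764, nat_lit 214956, nat_lit 100852, nat_lit 25993, nat_lit 47822, nat_lit 140410, nat_lit 211103, nat_lit 121885, nat_lit 156710, nat_lit 188543, nat_lit 225429, nat_lit 200762, nat_lit 73759]

noncomputable def h1 : List ℕ :=
  [nat_lit 3, nat_lit 1, nat_lit 132608, nat_lit 199424, nat_lit 213760, nat_lit 98560, nat_lit 36096, nat_lit 50688, nat_lit 88, nat_lit 172, nat_lit 12428, nat_lit 4292, nat_lit 101376, nat_lit 181248, nat_lit 8272, nat_lit 12448, nat_lit 12332, nat_lit 4148]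

noncomputable def h2 : List ℕ :=
  [nat_lit 2, nat_lit 3, nat_lit 12360, nat_lit 4236, nat_lit 8400, nat_lit 12384, nat_lit 8212, nat_lit 12328, nat_lit 134912, nat_lit 197888, nat_lit 18944, nat_lit 36608, nat_lit 104, nat_lit 188, nat_lit 246784, nat_lit 83968, nat_lit 164608, nat_lit 246016]

noncomputable def mW : List ℕ :=
  [nat_lit 2, nat_lit 3, nat_lit 8, nat_lit 12, nat_lit 32, nat_lit 48, nat_lit 128, nat_lit 192, nat_lit 512, nat_lit 768, nat_lit 2048, nat_lit 3072, nat_lit 8192, nat_lit 12288, nat_lit 32768, nat_lit 49152, nat_lit 131072, nat_lit 196608]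

noncomputable def tA : List (List ℕ) :=
  [[nat_lit 119196, nat_lit 156388, nat_lit 86602, nat_lit 172943, nat_lit 127541, nat_lit 152346, nat_lit 67984, nat_lit 134880, nat_lit 177139, nat_lit 250193, nat_lit 229723, nat_lit 115373, nat_lit 8198, nat_lit 12299, nat_lit 47000, nat_lit 55788, nat_lit 158868, nat_lit 242920],
  [nat_lit 43824, nat_lit 64784, nat_lit 247039, nat_lit 84053, nat_lit 194391, nat_lit 219561, nat_lit 122081, nat_lit 156786, nat_lit 34731, nat_lit 51709, nat_lit 227296, nat_lit 104816, nat_lit 153153, nat_lit 240514, nat_lit 109319, nat_lit 195849, nat_lit 241577, nat_lit 128510],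
  [nat_lit 65851, nat_lit 131613, nat_lit 229040, nat_lit 104400, nat_lit 21932, nat_lit 43764, nat_lit 11933, nat_lit 14310, nat_lit 103169, nat_lit 188674, nat_lit 64408, nat_lit 24044, nat_lit 34897, nat_lit 52386, nat_lit 211012, nat_lit 72840, nat_lit 210897, nat_lit 72034],
  [nat_lit 234792, nat_lit 125500, nat_lit 67587, nat_lit 134145, nat_lit 167316, nat_lit 247528, nat_lit 204175, nat_lit 75461, nat_lit 196228, nat_lit 219080, nat_lit 124101, nat_lit 161866, nat_lit 115215, nat_lit 148229, nat_lit 21472, nat_lit 41328, nat_lit 50698, nat_lit 19215],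
  [nat_lit 102719, nat_lit 188949, nat_lit 223069, nat_lit 113062, nat_lit 148192, nat_lit 230256, nat_lit 89147, nat_lit 173085, nat_lit 246398, nat_lit 82839, nat_lit 242375, nat_lit 119625, nat_lit 121857, nat_lit 156674, nat_lit 261428, nat_lit 87576, nat_lit 193882, nat_lit 219823],
  [nat_lit 220964, nat_lit 107832, nat_lit 198729, nat_lit 68750, nat_lit 102739, nat_lit 189089, nat_lit 204363, nat_lit 75661, nat_lit 94763, nat_lit 168765, nat_lit 161866, nat_lit 236687, nat_lit 184011, nat_lit 214861, nat_lit 61044, nat_lit 30616, nat_lit 43955, nat_lit 64977],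
  [nat_lit 146488, nat_lit 201756, nat_lit 109910, nat_lit 194219, nat_lit 108570, nat_lit 195631, nat_lit 192290, nat_lit 226611, nat_lit 94101, nat_lit 177642, nat_lit 204500, nat_lit 75624, nat_lit 133813, nat_lit 200666, nat_lit 131033, nat_lit 152942, nat_lit 200481, nat_lit 66866],
  [nat_lit 30735, nat_lit 39941, nat_lit 233584, nat_lit 123024, nat_lit 102928, nat_lit 189216, nat_lit 656, nat_lit 992, nat_lit 163777, nat_lit 234818, nat_lit 192452, nat_lit 226632, nat_lit 254282, nat_lit 94863, nat_lit 164462, nat_lit 246711, nat_lit 205751, nat_lit 78297],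
  [nat_lit 224155, nat_lit 114157, nat_lit 250200, nat_lit 90796, nat_lit 176773, nat_lit 250826, nat_lit 258819, nat_lit 86273, nat_lit 233616, nat_lit 123104, nat_lit 112362, nat_lit 187263, nat_lit 130866, nat_lit 152851, nat_lit 188395, nat_lit 222589, nat_lit 152818, nat_lit 239699],
  [nat_lit 53686, nat_lit 25307, nat_lit 243849, nat_lit 122062, nat_lit 32553, nat_lit 38206, nat_lit 64665, nat_lit 21742, nat_lit 580, nat_lit 904, nat_lit 261136, nat_lit 87072, nat_lit 14758, nat_lit 7931, nat_lit 100590, nat_lit 183415, nat_lit 32226, nat_lit 38515],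
  [nat_lit 43492, nat_lit 65144, nat_lit 105135, nat_lit 192501, nat_lit 222014, nat_lit 110871, nat_lit 64391, nat_lit 24009, nat_lit 176744, nat_lit 250812, nat_lit 203480, nat_lit 77676, nat_lit 126425, nat_lit 161390, nat_lit 101837, nat_lit 181830, nat_lit 66836, nat_lit 133672],
  [nat_lit 81081, nat_lit 136414, nat_lit 158794, nat_lit 242831, nat_lit 125671, nat_lit 163705, nat_lit 190792, nat_lit 229004, nat_lit 203348, nat_lit 77736, nat_lit 235349, nat_lit 125354, nat_lit 44313, nat_lit 63022, nat_lit 22314, nat_lit 43327, nat_lit 260859, nat_lit 89949],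
  [nat_lit 252930, nat_lit 91139, nat_lit 82132, nat_lit 163944, nat_lit 250666, nat_lit 90431, nat_lit 135643, nat_lit 205421, nat_lit 165183, nat_lit 248341, nat_lit 78750, nat_lit 135655, nat_lit 135039, nat_lit 198037, nat_lit 14908, nat_lit 7956, nat_lit 36675, nat_lit 50561],
  [nat_lit 25318, nat_lit 45947, nat_lit 77365, nat_lit 145178, nat_lit 138827, nat_lit 206733, nat_lit 179899, nat_lit 251869, nat_lit 138275, nat_lit 205873, nat_lit 62557, nat_lit 22694, nat_lit 70363, nat_lit 140141, nat_lit 113538, nat_lit 187843, nat_lit 126942, nat_lit 161127],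
  [nat_lit 23441, nat_lit 44514, nat_lit 95248, nat_lit 170016, nat_lit 16919, nat_lit 33577, nat_lit 165464, nat_lit 248748, nat_lit 13518, nat_lit 6215, nat_lit 233187, nat_lit 116593, nat_lit 149096, nat_lit 232380, nat_lit 46572, nat_lit 55924, nat_lit 205507, nat_lit 78657],
  [nat_lit 187394, nat_lit 222211, nat_lit 257244, nat_lit 95332, nat_lit 172560, nat_lit 258848, nat_lit 8279, nat_lit 12457, nat_lit 100453, nat_lit 183482, nat_lit 134135, nat_lit 200025, nat_lit 134015, nat_lit 200085, nat_lit 212972, nat_lit 71028, nat_lit 53060, nat_lit 17800],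
  [nat_lit 137402, nat_lit 208095, nat_lit 13103, nat_lit 4405, nat_lit 164791, nat_lit 246233, nat_lit 131195, nat_lit 196765, nat_lit 41463, nat_lit 62041, nat_lit 139039, nat_lit 206117, nat_lit 96233, nat_lit 170366, nat_lit 229310, nat_lit 103895, nat_lit 110313, nat_lit 194430],
  [nat_lit 248482, nat_lit 86003, nat_lit 30022, nat_lit 39563, nat_lit 23177, nat_lit 45006, nat_lit 49974, nat_lit 16667, nat_lit 207120, nat_lit 81440, nat_lit 32483, nat_lit 38769, nat_lit 127170, nat_lit 151619, nat_lit 182862, nat_lit 216967, nat_lit 199860, nat_lit 66776],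
  [nat_lit 247357, nat_lit 84758, nat_lit 70172, nat_lit 140068, nat_lit 224703, nat_lit 112341, nat_lit 47016, nat_lit 55804, nat_lit 237685, nat_lit 127130, nat_lit 239821, nat_lit 130118, nat_lit 38859, nat_lit 59725, nat_lit 160287, nat_lit 234277, nat_lit 196903, nat_lit 66105],
  [nat_lit 2, nat_lit 3, nat_lit 8, nat_lit 12, nat_lit 32, nat_lit 48, nat_lit 128, nat_lit 192, nat_lit 512, nat_lit 768, nat_lit 2048, nat_lit 3072, nat_lit 8192, nat_lit 12288, nat_lit 32768, nat_lit 49152, nat_lit 131072, nat_lit 196608],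
  [nat_lit 2, nat_lit 3, nat_lit 8, nat_lit 12, nat_lit 32, nat_lit 48, nat_lit 128, nat_lit 192, nat_lit 512, nat_lit 768, nat_lit 2048, nat_lit 3072, nat_lit 8192, nat_lit 12288, nat_lit 32768, nat_lit 49152, nat_lit 131072, nat_lit 196608]]

noncomputable def tC : List (List ℕ) :=
  [[nat_lit 1, nat_lit 2, nat_lit 108, nat_lit 180, nat_lit 12312, nat_lit 4140, nat_lit 4172, nat_lit 8324, nat_lit 182272, nat_lit 216064, nat_lit 67072, nat_lit 133888, nat_lit 12496, nat_lit 4192, nat_lit 98816, nat_lit 180992, nat_lit 19712, nat_lit 34304],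
  [nat_lit 2, nat_lit 3, nat_lit 4124, nat_lit 8228, nat_lit 220, nat_lit 100, nat_lit 12464, nat_lit 4304, nat_lit 18176, nat_lit 35072, nat_lit 148224, nat_lit 229632, nat_lit 8260, nat_lit 12424, nat_lit 69120, nat_lit 132864, nat_lit 117760, nat_lit 148480],
  [nat_lit 2, nat_lit 3, nat_lit 147968, nat_lit 230144, nat_lit 198400, nat_lit 67840, nat_lit 116736, nat_lit 150528, nat_lit 8248, nat_lit 12316, nat_lit 12368, nat_lit 4256, nat_lit 51456, nat_lit 19968, nat_lit 8392, nat_lit 12364, nat_lit 92, nat_lit 164],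
  [nat_lit 2, nat_lit 3, nat_lit 236, nat_lit 116, nat_lit 12340, nat_lit 4120, nat_lit 8396, nat_lit 12356, nat_lit 183296, nat_lit 214016, nat_lit 198144, nat_lit 68352, nat_lit 12400, nat_lit 4240, nat_lit 213504, nat_lit 99072, nat_lit 35584, nat_lit 52480],
  [nat_lit 3, nat_lit 1, nat_lit 220, nat_lit 100, nat_lit 8228, nat_lit 12344, nat_lit 12424, nat_lit 4300, nat_lit 117760, nat_lit 148480, nat_lit 132864, nat_lit 198912, nat_lit 12464, nat_lit 4304, nat_lit 115200, nat_lit 148224, nat_lit 18176, nat_lit 35072],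
  [nat_lit 3, nat_lit 1, nat_lit 216064, nat_lit 99328, nat_lit 51968, nat_lit 19712, nat_lit 133888, nat_lit 199936, nat_lit 12496, nat_lit 4192, nat_lit 180, nat_lit 216, nat_lit 213248, nat_lit 98816, nat_lit 4140, nat_lit 8244, nat_lit 12488, nat_lit 4172],
  [nat_lit 2, nat_lit 3, nat_lit 84, nat_lit 168, nat_lit 4116, nat_lit 8232, nat_lit 8328, nat_lit 12492, nat_lit 82944, nat_lit 165888, nat_lit 66816, nat_lit 133632, nat_lit 12528, nat_lit 4176, nat_lit 164352, nat_lit 246528, nat_lit 35328, nat_lit 52992],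
  [nat_lit 3, nat_lit 1, nat_lit 114944, nat_lit 147968, nat_lit 198400, nat_lit 67840, nat_lit 230400, nat_lit 116736, nat_lit 8248, nat_lit 12316, nat_lit 4256, nat_lit 8432, nat_lit 51456, nat_lit 19968, nat_lit 12364, nat_lit 4228, nat_lit 248, nat_lit 92],
  [nat_lit 3, nat_lit 1, nat_lit 8368, nat_lit 12496, nat_lit 8324, nat_lit 12488, nat_lit 108, nat_lit 180, nat_lit 98816, nat_lit 180992, nat_lit 99328, nat_lit 182272, nat_lit 12312, nat_lit 4140, nat_lit 19712, nat_lit 34304, nat_lit 199936, nat_lit 67072],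
  [nat_lit 1, nat_lit 2, nat_lit 12512, nat_lit 4208, nat_lit 8332, nat_lit 12484, nat_lit 228, nat_lit 120, nat_lit 115456, nat_lit 147712, nat_lit 232448, nat_lit 115712, nat_lit 8220, nat_lit 12324, nat_lit 36352, nat_lit 50944, nat_lit 133376, nat_lit 200192],
  [nat_lit 2, nat_lit 3, nat_lit 256, nat_lit 512, nat_lit 196608, nat_lit 65536, nat_lit 3072, nat_lit 1024, nat_lit 8192, nat_lit 12288, nat_lit 4, nat_lit 8, nat_lit 16384, nat_lit 32768, nat_lit 48, nat_lit 16, nat_lit 128, nat_lit 192],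
  [nat_lit 2, nat_lit 3, nat_lit 116736, nat_lit 150528, nat_lit 34560, nat_lit 51456, nat_lit 67840, nat_lit 134656, nat_lit 4256, nat_lit 8432, nat_lit 92, nat_lit 164, nat_lit 230144, nat_lit 114944, nat_lit 12316, nat_lit 4132, nat_lit 8392, nat_lit 12364],
  [nat_lit 2, nat_lit 3, nat_lit 128, nat_lit 192, nat_lit 4096, nat_lit 8192, nat_lit 32, nat_lit 48, nat_lit 2048, nat_lit 3072, nat_lit 65536, nat_lit 131072, nat_lit 4, nat_lit 8, nat_lit 256, nat_lit 512, nat_lit 49152, nat_lit 16384],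
  [nat_lit 1, nat_lit 2, nat_lit 98816, nat_lit 180992, nat_lit 133888, nat_lit 199936, nat_lit 216064, nat_lit 99328, nat_lit 4140, nat_lit 8244, nat_lit 8368, nat_lit 12496, nat_lit 19712, nat_lit 34304, nat_lit 4172, nat_lit 8324, nat_lit 180, nat_lit 216],
  [nat_lit 1, nat_lit 2, nat_lit 3072, nat_lit 1024, nat_lit 16384, nat_lit 32768, nat_lit 65536, nat_lit 131072, nat_lit 12, nat_lit 4, nat_lit 64, nat_lit 128, nat_lit 768, nat_lit 256, nat_lit 8192, nat_lit 12288, nat_lit 48, nat_lit 16],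
  [nat_lit 2, nat_lit 3, nat_lit 8432, nat_lit 12368, nat_lit 8392, nat_lit 12364, nat_lit 92, nat_lit 164, nat_lit 114944, nat_lit 147968, nat_lit 116736, nat_lit 150528, nat_lit 4132, nat_lit 8248, nat_lit 19968, nat_lit 34560, nat_lit 134656, nat_lit 198400]]

noncomputable def p0 : List (ℕ × ℕ) :=
  [(nat_lit 0, nat_lit 1), (nat_lit 0, nat_lit 1), (nat_lit 3, nat_lit 1), (nat_lit 5, nat_lit 6), (nat_lit 0, nat_lit 7), (nat_lit 3, nat_lit 8), (nat_lit 6, nat_lit 3), (nat_lit 6, nat_lit 1), (nat_lit 3, nat_lit 11), (nat_lit 12, nat_lit 2), (nat_lit 4, nat_lit 2), (nat_lit 0, nat_lit 1), (nat_lit 4, nat_lit 3), (nat_lit 1, nat_lit 0), (nat_lit 11, nat_lit 1), (nat_lit 0, nat_lit 1), (nat_lit 6, nat_lit 3), (nat_lit 1, nat_lit 4), (nat_lit 1, nat_lit 5), (nat_lit 1, nat_lit 6), (nat_lit 1, nat_lit 11), (nat_lit 8, nat_lit 7), (nat_lit 0, nat_lit 2), (nat_lit 3, nat_lit 14), (nat_lit 3, nat_lit 0), (nat_lit 0, nat_lit 11), (nat_lit 19,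 nat_lit 0), (nat_lit 1, nat_lit 0), (nat_lit 0, nat_lit 1), (nat_lit 6, nat_lit 20), (nat_lit 1, nat_lit 0), (nat_lit 4, nat_lit 0), (nat_lit 2, nat_lit 18), (nat_lit 1, nat_lit 24), (nat_lit 0, nat_lit 25), (nat_lit 26, nat_lit 21), (nat_lit 0, nat_lit 3), (nat_lit 23, nat_lit 0), (nat_lit 3, nat_lit 7), (nat_lit 1, nat_lit 15), (nat_lit 16, nat_lit 1), (nat_lit 1, nat_lit 10), (nat_lit 5, nat_lit 1), (nat_lit 4, nat_lit 0), (nat_lit 2, nat_lit 13), (nat_lit 4, nat_lit 0), (nat_lit 13, nat_lit 2), (nat_lit 2, nat_lit 3), (nat_lit 4, nat_lit 5), (nat_lit 6, nat_lit 3), (nat_lit 2, nat_lit 4), (nat_lit 4, nat_lit 5), (nat_lit 1, nat_lit 3), (nat_lit 1, nat_lit 0), (nat_lit 8, nat_lit 5), (nat_lit 6, nat_lit 0), (nat_lit 3, nat_lit 25), (nat_lit 3, nat_lit 2), (nat_lit 2, nat_lit 27), (nat_lit 4, nat_lit 1), (nat_lit 2, nat_lit 29), (nat_lit 1, nat_lit 0), (nat_lit 31, nat_lit 1), (nat_lit 0, nat_lit 1), (nat_lit 0, nat_lit 2), (nat_lit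 0, nat_lit 0), (nat_lit 1, nat_lit 0), (nat_lit 10, nat_lit 8), (nat_lit 9, nat_lit 6), (nat_lit 7, nat_lit 0), (nat_lit 1, nat_lit 5), (nat_lit 0, nat_lit 3), (nat_lit 11, nat_lit 22), (nat_lit 5, nat_lit 0), (nat_lit 4, nat_lit 24), (nat_lit 1, nat_lit 25), (nat_lit 11, nat_lit 0), (nat_lit 0, nat_lit 4), (nat_lit 0, nat_lit 3), (nat_lit 0, nat_lit 29), (nat_lit 30, nat_lit 0), (nat_lit 6, nat_lit 1), (nat_lit 6, nat_lit 9), (nat_lit 11, nat_lit 3), (nat_lit 11, nat_lit 4), (nat_lit 1, nat_lit 5), (nat_lit 0, nat_lit 6), (nat_lit 0, nat_lit 4), (nat_lit 7, nat_lit 3), (nat_lit 1, nat_lit 6), (nat_lit 0, nat_lit 8), (nat_lit 0, nat_lit 2), (nat_lit 0, nat_lit 7)]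

noncomputable def p1 : List (ℕ × ℕ) :=
  [(nat_lit 0, nat_lit 1), (nat_lit 2, nat_lit 1), (nat_lit 1, nat_lit 2), (nat_lit 3, nat_lit 1), (nat_lit 5, nat_lit 3), (nat_lit 4, nat_lit 3), (nat_lit 1, nat_lit 0), (nat_lit 3, nat_lit 5), (nat_lit 1, nat_lit 5), (nat_lit 1, nat_lit 0), (nat_lit 8, nat_lit 1), (nat_lit 8, nat_lit 1), (nat_lit 6, nat_lit 1), (nat_lit 0, nat_lit 0), (nat_lit 0, nat_lit 0), (nat_lit 0, nat_lit 0), (nat_lit 0, nat_lit 0), (nat_lit 4, nat_lit 0), (nat_lit 5, nat_lit 7), (nat_lit 0, nat_lit 10), (nat_lit 10, nat_lit 0), (nat_lit 9, nat_lit 12), (nat_lit 13, nat_lit 0), (nat_lit 12, nat_lit 0), (nat_lit 3, nat_lit 1), (nat_lit 5, nat_lit 3), (nat_lit 3, nat_lit 4), (nat_lit 1, nat_lit 5), (nat_lit 6, nat_lit 0), (nat_lit 2, nat_lit 0), (nat_lit 2, nat_lit 6), (nat_lit 1, nat_lit 2), (nat_lit 0, nat_lit 3), (nat_lit 2, nat_lit 0), (nat_lit 5, nat_lit 1), (nat_lit 11, nat_lit 0), (nat_lit 0, nat_lit 2), (nat_lit 3,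 nat_lit 12), (nat_lit 1, nat_lit 3), (nat_lit 19, nat_lit 20), (nat_lit 18, nat_lit 0), (nat_lit 17, nat_lit 0), (nat_lit 17, nat_lit 0), (nat_lit 17, nat_lit 0), (nat_lit 17, nat_lit 0), (nat_lit 17, nat_lit 0), (nat_lit 17, nat_lit 0), (nat_lit 16, nat_lit 0), (nat_lit 16, nat_lit 0), (nat_lit 31, nat_lit 0), (nat_lit 0, nat_lit 0), (nat_lit 0, nat_lit 0), (nat_lit 0, nat_lit 0), (nat_lit 0, nat_lit 0), (nat_lit 3, nat_lit 0), (nat_lit 1, nat_lit 1), (nat_lit 1, nat_lit 0), (nat_lit 0, nat_lit 18), (nat_lit 20, nat_lit 33), (nat_lit 38, nat_lit 40), (nat_lit 36, nat_lit 0), (nat_lit 36, nat_lit 0), (nat_lit 36, nat_lit 0), (nat_lit 35, nat_lit 0), (nat_lit 34, nat_lit 0), (nat_lit 34, nat_lit 0), (nat_lit 34, nat_lit 0), (nat_lit 0, nat_lit 0), (nat_lit 0, nat_lit 0), (nat_lit 0, nat_lit 0), (nat_lit 0, nat_lit 11), (nat_lit 0, nat_lit 13), (nat_lit 1, nat_lit 0), (nat_lit 15, nat_lit 2), (nat_lit 1, nat_lit 0), (nat_lit 17, nat_lit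 1), (nat_lit 1, nat_lit 0), (nat_lit 3, nat_lit 19), (nat_lit 0, nat_lit 2), (nat_lit 7, nat_lit 0), (nat_lit 3, nat_lit 1), (nat_lit 2, nat_lit 0), (nat_lit 1, nat_lit 2), (nat_lit 7, nat_lit 1), (nat_lit 10, nat_lit 6), (nat_lit 0, nat_lit 9), (nat_lit 0, nat_lit 8), (nat_lit 5, nat_lit 0), (nat_lit 5, nat_lit 1), (nat_lit 1, nat_lit 9), (nat_lit 6, nat_lit 3), (nat_lit 1, nat_lit 0), (nat_lit 5, nat_lit 0), (nat_lit 4, nat_lit 13), (nat_lit 13, nat_lit 14), (nat_lit 7, nat_lit 0), (nat_lit 6, nat_lit 0), (nat_lit 6, nat_lit 0), (nat_lit 5, nat_lit 0), (nat_lit 77, nat_lit 80), (nat_lit 77, nat_lit 0), (nat_lit 77, nat_lit 0), (nat_lit 76, nat_lit 0), (nat_lit 76, nat_lit 0), (nat_lit 76, nat_lit 0), (nat_lit 76, nat_lit 0), (nat_lit 75, nat_lit 0), (nat_lit 75, nat_lit 0), (nat_lit 75, nat_lit 0), (nat_lit 0, nat_lit 10), (nat_lit 20, nat_lit 22), (nat_lit 19, nat_lit 0), (nat_lit 18, nat_lit 0), (nat_lit 32, nat_lit 34), (nat_lit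 31, nat_lit 0), (nat_lit 27, nat_lit 0), (nat_lit 27, nat_lit 0), (nat_lit 27, nat_lit 0), (nat_lit 25, nat_lit 0), (nat_lit 40, nat_lit 42), (nat_lit 40, nat_lit 0), (nat_lit 38, nat_lit 0), (nat_lit 34, nat_lit 0), (nat_lit 34, nat_lit 0), (nat_lit 34, nat_lit 0), (nat_lit 32, nat_lit 0), (nat_lit 32, nat_lit 0)]

noncomputable def pH : List (ℕ × ℕ) :=
  [(nat_lit 0, nat_lit 1), (nat_lit 2, nat_lit 1), (nat_lit 1, nat_lit 2), (nat_lit 4, nat_lit 1), (nat_lit 4, nat_lit 3), (nat_lit 1, nat_lit 4), (nat_lit 5, nat_lit 3), (nat_lit 0, nat_lit 2), (nat_lit 0, nat_lit 5), (nat_lit 3, nat_lit 4), (nat_lit 7, nat_lit 5), (nat_lit 9, nat_lit 0), (nat_lit 2, nat_lit 1), (nat_lit 2, nat_lit 0), (nat_lit 1, nat_lit 2), (nat_lit 10, nat_lit 1), (nat_lit 2, nat_lit 7), (nat_lit 2, nat_lit 8), (nat_lit 1, nat_lit 6), (nat_lit 3, nat_lit 10), (nat_lit 1, nat_lit 0), (nat_lit 12, nat_lit 0), (nat_lit 2, nat_lit 4), (nat_lit 5, nat_lit 11), (nat_lit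 0, nat_lit 12)]

noncomputable def p2 : List (ℕ × ℕ) :=
  [(nat_lit 1, nat_lit 1), (nat_lit 0, nat_lit 2), (nat_lit 0, nat_lit 3), (nat_lit 0, nat_lit 4), (nat_lit 0, nat_lit 5), (nat_lit 0, nat_lit 6), (nat_lit 0, nat_lit 7), (nat_lit 8, nat_lit 9), (nat_lit 10, nat_lit 9), (nat_lit 11, nat_lit 8), (nat_lit 12, nat_lit 8), (nat_lit 13, nat_lit 8), (nat_lit 14, nat_lit 8), (nat_lit 15, nat_lit 8), (nat_lit 14, nat_lit 14), (nat_lit 0, nat_lit 15), (nat_lit 0, nat_lit 0), (nat_lit 2, nat_lit 0), (nat_lit 18, nat_lit 21), (nat_lit 0, nat_lit 1), (nat_lit 20, nat_lit 0), (nat_lit 0, nat_lit 3), (nat_lit 23, nat_lit 22), (nat_lit 0, nat_lit 17), (nat_lit 25, nat_lit 8), (nat_lit 0, nat_lit 19), (nat_lit 10, nat_lit 0), (nat_lit 10, nat_lit 1), (nat_lit 6, nat_lit 2), (nat_lit 3, nat_lit 3), (nat_lit 14, nat_lit 0), (nat_lit 14, nat_lit 2), (nat_lit 15, nat_lit 2), (nat_lit 33, nat_lit 4), (nat_lit 0, nat_lit 16), (nat_lit 18, nat_lit 0),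 (nat_lit 10, nat_lit 1), (nat_lit 10, nat_lit 2), (nat_lit 39, nat_lit 20), (nat_lit 0, nat_lit 33), (nat_lit 41, nat_lit 17), (nat_lit 0, nat_lit 36), (nat_lit 43, nat_lit 3), (nat_lit 0, nat_lit 38), (nat_lit 45, nat_lit 3), (nat_lit 0, nat_lit 41), (nat_lit 47, nat_lit 3), (nat_lit 0, nat_lit 43)]

theorem slp0 : slpChk oD [oB, oC, oE] p0 (List.zip [nat_lit 26, nat_lit 0] [x1, x2]) = true := by decide +kernel

theorem slp1 : slpChk x1 [x2] p1 (List.zip [nat_lit 108, nat_lit 107, nat_lit 106, nat_lit 105, nat_lit 104, nat_lit 103, nat_lit 102, nat_lit 101, nat_lit 100, nat_lit 99, nat_lit 98, nat_lit 97, nat_lit 96, nat_lit 95, nat_lit 94, nat_lit 93, nat_lit 92, nat_lit 91, nat_lit 90, nat_lit 109, nat_lit 109, nat_lit 69, nat_lit 56, nat_lit 17, nat_lit 14, nat_lit 8, nat_lit 0] (tA ++ [h1, h2, oD, oB, oC, oE])) = true := by decide +kernel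

theorem slpH : slpChk h1 [h2] pH (List.zip [nat_lit 15, nat_lit 14, nat_lit 13, nat_lit 12, nat_lit 11, nat_lit 10, nat_lit 9, nat_lit 8, nat_lit 7, nat_lit 6, nat_lit 5, nat_lit 4, nat_lit 3, nat_lit 2, nat_lit 1, nat_lit 0] tC) = true := by decide +kernel

theorem slp2 : slpChk oD [oB, oC, oE] p2 (List.zip [nat_lit 41, nat_lit 32, nat_lit 31, nat_lit 21, nat_lit 20, nat_lit 22, nat_lit 15, nat_lit 18, nat_lit 17, nat_lit 51, nat_lit 16, nat_lit 19, nat_lit 28, nat_lit 12, nat_lit 13, nat_lit 26, nat_lit 11, nat_lit 10, nat_lit 41, nat_lit 4, nat_lit 6, nat_lit 48, nat_lit 24, nat_lit 2, nat_lit 30, nat_lit 0, nat_lit 8, nat_lit 41, nat_lit 43, nat_lit 47, nat_lit 41, nat_lit 49, nat_lit 46, nat_lit 45, nat_lit 42, nat_lit 44, nat_lit 41, nat_lit 38, nat_lit 34, nat_lit 50, nat_lit 40, nat_lit 35, nat_lit 36, nat_lit 39, nat_lit 37] (tabA ++ tabE ++ tabD ++ tabB ++ tabC)) = true := by decide +kernel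

theorem chkInvA : allL (fun i => mulChk (nth invA [] i) (nth tabA [] i) (idL 18 1)) [0, 1, 2, 3, 4, 5, 6, 7, 8] = true := by decide +kernel

theorem chkInvE : allL (fun i => mulChk (nth invE [] i) (nth tabE [] i) (idL 18 1)) [0, 1, 2, 3, 4, 5, 6, 7, 8] = true := by decide +kernel

theorem chkInvD : allL (fun i => mulChk (nth invD [] i) (nth tabD [] i) (idL 18 1)) [0, 1, 2, 3, 4, 5, 6, 7, 8] = true := by decide +kernel

theorem chkInvB : allL (fun i => mulChk (nth invB [] i) (nth tabB [] i) (idL 18 1)) [0, 1, 2, 3, 4, 5, 6, 7, 8] = true := by decide +kernel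

theorem chkInvC : allL (fun i => mulChk (nth invC [] i) (nth tabC [] i) (idL 18 1)) [0, 1, 2, 3, 4, 5, 6, 7, 8] = true := by decide +kernel

theorem pow1 : powChk x1 18 (idL 18 1) = true := by decide +kernel

theorem pow2 : powChk x2 18 (idL 18 1) = true := by decide +kernel

noncomputable def bs : List ℕ := [nat_lit 1, nat_lit 4, nat_lit 16, nat_lit 64, nat_lit 256, nat_lit 1024, nat_lit 4096, nat_lit 16384, nat_lit 65536]

end Cfsg.Agent.H57.J3
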