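/-
Data for the group `2^{1+4}_-:A5` on 32 points (tools_h57/e32.py).
-/
import Cfsg.Agent.H56.Mod.Alt
import Cfsg.Agent.H14.Local

set_option autoImplicit false
set_option maxRecDepth 100000

namespace Cfsg.Agent.H57.E32

open Cfsg.Agent.H14 Cfsg.Agent.H56

def hG : List ℕ := [nat_lit 0xffb24aa3a654b655d82c035d09dcfa4e29c18a2f, nat_lit 0x216f10a80bdc26fcbb43c0ad2e50df478e9636bd, nat_lit 0x9dd00b364c8d0c17f06b12abd2921a760e9ffb3b]
def hcL0 : Lev := ⟨nat_lit 0, nat_lit 0xffffffff, (.node (nat_lit 16) (.node (nat_lit 8) (.node (nat_lit 4) (.node (nat_lit 2) (.node (nat_lit 1) (.leaf (nat_lit 0xffbbcdeb38bdab49ca307b9ac5a928398a418820)) (.leaf (nat_lit 0xceffd859d2d3fd5c459c6d2773a46a12d0621401))) (.node (nat_lit 3) (.leaf (nat_lit 0x52f8fb364cfe691f6c6712485c6a15776f3080c8)) (.leaf (nat_lit 0x10dd28e1faff616f556951cc86b29be66f300485)))) (.node (nat_lit 6) (.node (nat_lit 5) (.leaf (nat_lit 0x9de4936918272c72d33ddd54b7c5cd83020ff862))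 (.leaf (nat_lit 0xe51e75fd5e2b62923376cc843ed757c4c0183906))) (.node (nat_lit 7) (.leaf (nat_lit 0x83918926c7178da1fdea8aebdde661b818de5085)) (.leaf (nat_lit 0x9dcbb37515b2c99928fa4e29cff82c035d07c443))))) (.node (nat_lit 12) (.node (nat_lit 10) (.node (nat_lit 9) (.leaf (nat_lit 0x6347fb1e492d05e2736bcaa2faf600706f3d60c8)) (.leaf (nat_lit 0x6349913c71e98bbaa12e3c2f3d60140f3df9594b))) (.node (nat_lit 11) (.leaf (nat_lit 0x3a6a8d972488fa678af09b98d083dcfd358b496a)) (.leaf (nat_lit 0x49e23c9365b2de2929bf67a9c00713d5dd0ed4c8)))) (.node (nat_lit 14) (.node (nat_lit 13) (.leaf (nat_lit 0xe515870a03a9d7aea5996ec207c65fb78c8216f3)) (.leaf (nat_lit 0xc691079e29610ce6965cb5001cee7dbd44352fdf))) (.node (nat_lit 15) (.leaf (nat_lit 0x7c78a1b04db9a8b9a2c1903b5d6205713fe3a73b)) (.leaf (nat_lit 0xffb24aa3a654b655d82c035d09dcfa4e29c18a2f)))))) (.node (nat_lit 24) (.node (nat_lit 20) (.node (nat_lit 18) (.node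 (nat_lit 17) (.leaf (nat_lit 0x95a685d15c68ae660fa0a85f1743e4f175849f79)) (.leaf (nat_lit 0xcedc6f2beb4c6083bc170ce9cc68561cabd2158d))) (.node (nat_lit 19) (.leaf (nat_lit 0x7c75ba579d18719103e5f10c83a56d531d09de56)) (.leaf (nat_lit 0x5ab4f93ad0097110107315f79a718869927ffbb5)))) (.node (nat_lit 22) (.node (nat_lit 21) (.leaf (nat_lit 0xe51418ddf3ab160eb50330a562171fd792783b79)) (.leaf (nat_lit 0x3a423ef2b494c02b5ddf878a47c4cb429accef1a))) (.node (nat_lit 23) (.leaf (nat_lit 0xed7f9649b6403db306047156a49c7714f58e51f1)) (.leaf (nat_lit 0x3a738ef2b400b7a08d6d531d07c7e5f10c8b4af3))))) (.node (nat_lit 28) (.node (nat_lit 26) (.node (nat_lit 25) (.leaf (nat_lit 0x83acd30500cfe4cdf89d2d56a18ae999f58e51f1)) (.leaf (nat_lit 0x216f10a80bdc26fcbb43c0ad2e50df478e9636bd))) (.node (nat_lit 27) (.leaf (nat_lit 0xc6a3758141dc1f3cb8b62486241a87e27fe6b3b5)) (.leaf (nat_lit 0x3234c024278730d752c4915f1ed57956c43bcfdf))))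 (.node (nat_lit 30) (.node (nat_lit 29) (.leaf (nat_lit 0x9dd00b364c8d0c17f06b12abd2921a760e9ffb3b)) (.leaf (nat_lit 0x214099fefea3827e42b2ed843ced0a32df163758))) (.node (nat_lit 31) (.leaf (nat_lit 0x80bb454dd5d89954bf0f39ac3a67cbd31a18a2f)) (.leaf (nat_lit 0x5152ec991c4dd13ff4f731a49e6ebc1ac5aad2)))))))⟩
def hcC0 : LevCert := ⟨hcL0,
    [(nat_lit 15, nat_lit 0), (nat_lit 25, nat_lit 1), (nat_lit 28, nat_lit 2), (nat_lit 20, nat_lit 1), (nat_lit 19, nat_lit 2), (nat_lit 29, nat_lit 0), (nat_lit 1, nat_lit 2), (nat_lit 4, nat_lit 0), (nat_lit 11, nat_lit 1), (nat_lit 18, nat_lit 2), (nat_lit 5, nat_lit 0), (nat_lit 10, nat_lit 1), (nat_lit 22, nat_lit 2), (nat_lit 21, nat_lit 1), (nat_lit 31, nat_lit 2), (nat_lit 12, nat_lit 2), (nat_lit 17, nat_lit 0), (nat_lit 27, nat_lit 1), (nat_lit 24, nat_lit 1), (nat_lit 16, nat_lit 2), (nat_lit 30, nat_lit 1), (nat_lit 23, nat_lit 0), (nat_lit 26,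 nat_lit 1), (nat_lit 14, nat_lit 2), (nat_lit 13, nat_lit 1), (nat_lit 8, nat_lit 1), (nat_lit 3, nat_lit 2), (nat_lit 6, nat_lit 0), (nat_lit 9, nat_lit 2), (nat_lit 2, nat_lit 2), (nat_lit 7, nat_lit 2)],
    [[nat_lit 0, nat_lit 4, nat_lit 4, nat_lit 4, nat_lit 4, nat_lit 0, nat_lit 2, nat_lit 4], [nat_lit 2, nat_lit 4, nat_lit 2, nat_lit 4, nat_lit 6, nat_lit 4, nat_lit 4, nat_lit 6, nat_lit 6, nat_lit 4, nat_lit 6]],
    [nat_lit 0xde7d574a16c47fdd3db4672f349c4b1a8c829020, nat_lit 0x6b311afbbf93b4fb4274bf33b10d0b328e929020]⟩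
def hcL1 : Lev := ⟨nat_lit 2, nat_lit 0xb14, (.node (nat_lit 8) (.node (nat_lit 4) (.leaf (nat_lit 0xffbbcdeb38bdab49ca307b9ac5a928398a418820)) (.leaf (nat_lit 0xbcecdfe7db7f24c8d35dc560e2156951c6232020))) (.node (nat_lit 9) (.leaf (nat_lit 0xaf59ae428efcdb8f5f2fdc6564188228d4b3a420)) (.node (nat_lit 11) (.leaf (nat_lit 0xde7d574a16c47fdd3db4672f349c4b1a8c829020)) (.leaf (nat_lit 0x6b311afbbf93b4fb4274bf33b10d0b328e929020)))))⟩
def hcC1 : LevCert := ⟨hcL1,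
    [(nat_lit 9, nat_lit 0), (nat_lit 11, nat_lit 1), (nat_lit 4, nat_lit 1), (nat_lit 8, nat_lit 0)],
    [[nat_lit 2, nat_lit 0, nat_lit 0, nat_lit 2], [nat_lit 2, nat_lit 4, nat_lit 4]],
    [nat_lit 0xffa72ad3bcdeaf6ce20c735f15a904314e918820, nat_lit 0x83b7a94ed7a5738e762c7b7df419243954b18820]⟩
def hcL2 : Lev := ⟨nat_lit 4, nat_lit 0xb10, (.node (nat_lit 9) (.node (nat_lit 8) (.leaf (nat_lit 0xffbbcdeb38bdab49ca307b9ac5a928398a418820)) (.leaf (nat_lit 0xffa72ad3bcdeaf6ce20c735f15a904314e918820))) (.node (nat_lit 11) (.leaf (nat_lit 0xffb38bda72ad37aef1916bdd05a88929cc818820)) (.leaf (nat_lit 0x636b4c675bb5fbc94e1173fdf2150931d4b18820))))⟩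
def hcC2 : LevCert := ⟨hcL2,
    [(nat_lit 8, nat_lit 0), (nat_lit 9, nat_lit 0), (nat_lit 11, nat_lit 1)],
    [[nat_lit 0, nat_lit 2, nat_lit 2, nat_lit 2, nat_lit 0, nat_lit 0, nat_lit 0, nat_lit 2, nat_lit 2]],
    [nat_lit 0x8bf199caf6e775ba561f779ac49d0b328a418820]⟩
def hcL3 : Lev := ⟨nat_lit 6, nat_lit 0x4c0, (.node (nat_lit 7) (.leaf (nat_lit 0xffbbcdeb38bdab49ca307b9ac5a928398a418820)) (.node (nat_lit 10) (.leaf (nat_lit 0x8bf199caf6e775ba561f779ac49d0b328a418820)) (.leaf (nat_lit 0x83ad7a579dce253debf1f3dac4196951ca418820))))⟩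
def hcC3 : LevCert := ⟨hcL3,
    [(nat_lit 7, nat_lit 0), (nat_lit 10, nat_lit 0)],
    [],
    []⟩
def hc : List LevCert := [hcC0, hcC1, hcC2, hcC3]
def hcL : List Lev := [hcL0, hcL1, hcL2, hcL3]
def qG : List ℕ := [nat_lit 0x6b04094ed7d6c61c64c941fdf291d183d4bed794, nat_lit 0x29023bda72ce002de9d183d4b6b0c941fdfa72bd, nat_lit 0x9dd10230adf28cefac5c1d31a9581d0d73b7c4e9, nat_lit 0xa717f79e298215e71b73cdc01af752c5843291ac]
def qcL0 : Lev := ⟨nat_lit 0, nat_lit 0xffffffff, (.node (nat_lit 16) (.node (nat_lit 8) (.node (nat_lit 4) (.node (nat_lit 2) (.node (nat_lit 1) (.leaf (nat_lit 0xffbbcdeb38bdab49ca307b9ac5a928398a418820)) (.leaf (nat_lit 0xf7eb4ce37a9cbbcbd9ee8c18d52ce64a08510c01))) (.node (nat_lit 3) (.leaf (nat_lit 0x52f9dd6f19b5e9594ce64a085f7dee8c18d08062)) (.leaf (nat_lit 0x5aa95c675b94f9db5d28398a4ffa307b9ac00443)))) (.node (nat_lit 6) (.node (nat_lit 5) (.leaf (nat_lit 0xed7eb3bd31443ca33b16d4862e5337dcc206b0a4))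 (.leaf (nat_lit 0xaf7ca4c4ef33beb44352c5843a7373cdc0163485))) (.node (nat_lit 7) (.leaf (nat_lit 0xde531fafca230ef2b783a0a56d63a1a827783906)) (.leaf (nat_lit 0xbccce2b48cfad10f287417358b4835077798bd27))))) (.node (nat_lit 12) (.node (nat_lit 10) (.node (nat_lit 9) (.leaf (nat_lit 0xceceff2beb2b53123282e0ed2c6aa0e86f3740c8)) (.leaf (nat_lit 0x9dd10230adf28cefac5c1d31a9581d0d73b7c4e9))) (.node (nat_lit 11) (.leaf (nat_lit 0x1898471a0879da58a679beebd08258b6a9cff96a)) (.leaf (nat_lit 0x10da5821c68a58479efb9e7b5006da96394f7d4b)))) (.node (nat_lit 14) (.node (nat_lit 13) (.leaf (nat_lit 0xe515e8a5e77197f82337dcc20ed716d48622158d)) (.leaf (nat_lit 0xa717f79e298215e71b73cdc01af752c5843291ac))) (.node (nat_lit 15) (.leaf (nat_lit 0xd61e75797f69629613a1a8277de783a0a56321d0)) (.leaf (nat_lit 0xb4a08611a5579c65fc3507779bcc74173583a5f1)))))) (.node (nat_lit 24) (.node (nat_lit 20) (.node (nat_lit 18) (.node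 (nat_lit 17) (.leaf (nat_lit 0xc6a295fd5e611e7696a0e86f3cee82e0ed241a0e)) (.leaf (nat_lit 0x959c6695845fe085781d0d73b9dc5c1d31a49e2f))) (.node (nat_lit 19) (.leaf (nat_lit 0x7c75ba579d18719103e5f10c83a56d531d09de56)) (.leaf (nat_lit 0x49f7aad3bc08f380094c5b60e8bfc4f950695a77)))) (.node (nat_lit 22) (.node (nat_lit 21) (.leaf (nat_lit 0x63461b5e53c6440d6d07327fe2160f7456aaf69c)) (.leaf (nat_lit 0x29023bda72ce002de9d183d4b6b0c941fdfa72bd))) (.node (nat_lit 23) (.leaf (nat_lit 0x8bf19e76951035b187c4f950649d4c5b60ebced2)) (.leaf (nat_lit 0x3a738ef2b400b7a08d6d531d07c7e5f10c8b4af3))))) (.node (nat_lit 28) (.node (nat_lit 26) (.node (nat_lit 25) (.leaf (nat_lit 0x7425318440e76d7a549f2f9273218b6aa2fcef1a)) (.leaf (nat_lit 0x41a7208c02ef2f6ad1aa62df1838be27ce9c6b3b))) (.node (nat_lit 27) (.leaf (nat_lit 0x83ad710061a5653e74be27ce9419aa62df1de758)) (.leaf (nat_lit 0x322f600823ad272ef18b6aa2f7409f2f927d6379))))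 (.node (nat_lit 30) (.node (nat_lit 29) (.leaf (nat_lit 0x6b04094ed7d6c61c64c941fdf291d183d4bed794)) (.leaf (nat_lit 0x214029caf6de823ce20f7456a63507327fee53b5))) (.node (nat_lit 31) (.leaf (nat_lit 0x80ad440ce4c48c3be58b6a9c18a79beebd52fdf)) (.leaf (nat_lit 0x48c339103bcad4c6da9639410efb9e7b55abfe)))))))⟩
def qcC0 : LevCert := ⟨qcL0,
    [(nat_lit 28, nat_lit 0), (nat_lit 21, nat_lit 1), (nat_lit 9, nat_lit 2), (nat_lit 13, nat_lit 3), (nat_lit 1, nat_lit 0), (nat_lit 2, nat_lit 1), (nat_lit 16, nat_lit 2), (nat_lit 30, nat_lit 3), (nat_lit 6, nat_lit 2), (nat_lit 11, nat_lit 3), (nat_lit 8, nat_lit 1), (nat_lit 24, nat_lit 3), (nat_lit 31, nat_lit 0), (nat_lit 20, nat_lit 0), (nat_lit 29, nat_lit 1), (nat_lit 7, nat_lit 2), (nat_lit 12, nat_lit 3), (nat_lit 17, nat_lit 2), (nat_lit 5, nat_lit 3), (nat_lit 15, nat_lit 1), (nat_lit 23, nat_lit 3), (nat_lit 18, nat_lit 3), (nat_lit 4, nat_lit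 0), (nat_lit 22, nat_lit 3), (nat_lit 19, nat_lit 0), (nat_lit 3, nat_lit 1), (nat_lit 14, nat_lit 2), (nat_lit 10, nat_lit 3), (nat_lit 26, nat_lit 3), (nat_lit 25, nat_lit 3), (nat_lit 27, nat_lit 3)],
    [],
    []⟩
def qc : List LevCert := [qcC0]
def qcL : List Lev := [qcL0]
def aG : List ℕ := [nat_lit 0x8be95d6f199cb9dbdbecf35d049d64514c818820, nat_lit 0xc6a37dc32e655f36f65eb7e9c4192238ca452c20]
def acL0 : Lev := ⟨nat_lit 4, nat_lit 0xb14, (.node (nat_lit 8) (.node (nat_lit 4) (.leaf (nat_lit 0x6b2d0d3f11afa4eefe9be66f310d6951cc829020)) (.leaf (nat_lit 0xffbbcdeb38bdab49ca307b9ac5a928398a418820))) (.node (nat_lit 9) (.leaf (nat_lit 0x8be95d6f199cb9dbdbecf35d049d64514c818820)) (.node (nat_lit 11) (.leaf (nat_lit 0xb4afe669b87527f87335df62f5a888298623a420)) (.leaf (nat_lit 0xceff3d330d873d7752cf947b52156250cc83a420)))))⟩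
def acC0 : LevCert := ⟨acL0,
    [(nat_lit 8, nat_lit 0), (nat_lit 11, nat_lit 1), (nat_lit 9, nat_lit 0), (nat_lit 2, nat_lit 1)],
    [[nat_lit 0, nat_lit 2, nat_lit 2, nat_lit 0, nat_lit 0, nat_lit 0, nat_lit 0, nat_lit 0, nat_lit 2, nat_lit 0], [nat_lit 4, nat_lit 4, nat_lit 4, nat_lit 4]],
    [nat_lit 0xf7eac9bef1cbbaddc312d5a9c10d0931ca452c20, nat_lit 0xc6a37dc32e655f36f65eb7e9c4192238ca452c20]⟩
def acL1 : Lev := ⟨nat_lit 2, nat_lit 0xb04, (.node (nat_lit 9) (.node (nat_lit 8) (.leaf (nat_lit 0xffbbcdeb38bdab49ca307b9ac5a928398a418820)) (.leaf (nat_lit 0xc6a37dc32e655f36f65eb7e9c4192238ca452c20))) (.node (nat_lit 11) (.leaf (nat_lit 0xd61fc6d992cfe34df9dd856775a84919ca432020)) (.leaf (nat_lit 0xf7eac9bef1cbbaddc312d5a9c10d0931ca452c20))))⟩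
def acC1 : LevCert := ⟨acL1,
    [(nat_lit 11, nat_lit 0), (nat_lit 8, nat_lit 1), (nat_lit 9, nat_lit 0)],
    [[nat_lit 0, nat_lit 0, nat_lit 2, nat_lit 2, nat_lit 0, nat_lit 2, nat_lit 2, nat_lit 0]],
    [nat_lit 0x8bf199caf6e775ba561f779ac49d0b328a418820]⟩
def acL2 : Lev := ⟨nat_lit 6, nat_lit 0x4c0, (.node (nat_lit 7) (.leaf (nat_lit 0xffbbcdeb38bdab49ca307b9ac5a928398a418820)) (.node (nat_lit 10) (.leaf (nat_lit 0x8bf199caf6e775ba561f779ac49d0b328a418820)) (.leaf (nat_lit 0x83ad7a579dce253debf1f3dac4196951ca418820))))⟩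
def acC2 : LevCert := ⟨acL2,
    [(nat_lit 7, nat_lit 0), (nat_lit 10, nat_lit 0)],
    [],
    []⟩
def ac : List LevCert := [acC0, acC1, acC2]
def acL : List Lev := [acL0, acL1, acL2]
def sG : List ℕ := [nat_lit 0x6b04094ed7d6c61c64c941fdf291d183d4bed794, nat_lit 0x29023bda72ce002de9d183d4b6b0c941fdfa72bd, nat_lit 0x9dd10230adf28cefac5c1d31a9581d0d73b7c4e9, nat_lit 0xa717f79e298215e71b73cdc01af752c5843291ac, nat_lit 0x8be95d6f199cb9dbdbecf35d049d64514c818820, nat_lit 0x636b4c675bb5fbc94e1173fdf2150931d4b18820]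
def scL0 : Lev := ⟨nat_lit 0, nat_lit 0xffffffff, (.node (nat_lit 16) (.node (nat_lit 8) (.node (nat_lit 4) (.node (nat_lit 2) (.node (nat_lit 1) (.leaf (nat_lit 0xffbbcdeb38bdab49ca307b9ac5a928398a418820)) (.leaf (nat_lit 0xf7eb4ce37a9cbbcbd9ee8c18d52ce64a08510c01))) (.node (nat_lit 3) (.leaf (nat_lit 0x52f9dd6f19b5e9594ce64a085f7dee8c18d08062)) (.leaf (nat_lit 0x2179ddeb389ca95bd90931d4b6361173fdf00443)))) (.node (nat_lit 6) (.node (nat_lit 5) (.leaf (nat_lit 0xed7eb3bd31443ca33b16d4862e5337dcc206b0a4)) (.leaf (nat_lit 0xaf7ca4c4ef33beb44352c5843a7373cdc0163485))) (.node (nat_lit 7) (.leaf (nat_lit 0xde531fafca230ef2b783a0a56d63a1a827783906)) (.leaf (nat_lit 0xbccce2b48cfad10f287417358b4835077798bd27))))) (.node (nat_lit 12) (.node (nat_lit 10) (.node (nat_lit 9) (.leaf (nat_lit 0xceceff2beb2b53123282e0ed2c6aa0e86f3740c8)) (.leaf (nat_lit 0x9dd10230adf28cefac5c1d31a9581d0d73b7c4e9))) (.node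 (nat_lit 11) (.leaf (nat_lit 0x18beb79e2971bca8225ab63b50827bbe79463485)) (.leaf (nat_lit 0x10da5821c68a58479efb9e7b5006da96394f7d4b)))) (.node (nat_lit 14) (.node (nat_lit 13) (.leaf (nat_lit 0xe515e8a5e77197f82337dcc20ed716d48622158d)) (.leaf (nat_lit 0xa717f79e298215e71b73cdc01af752c5843291ac))) (.node (nat_lit 15) (.leaf (nat_lit 0xde7ca3bd3171beb82281e02f3d62a3e8ad2291ac)) (.leaf (nat_lit 0xb4a08611a5579c65fc3507779bcc74173583a5f1)))))) (.node (nat_lit 24) (.node (nat_lit 20) (.node (nat_lit 18) (.node (nat_lit 17) (.leaf (nat_lit 0xc6a295fd5e611e7696a0e86f3cee82e0ed241a0e)) (.leaf (nat_lit 0x959c6695845fe085781d0d73b9dc5c1d31a49e2f))) (.node (nat_lit 19) (.leaf (nat_lit 0x7c75ba579d18719103e5f10c83a56d531d09de56)) (.leaf (nat_lit 0x49f7aad3bc08f380094c5b60e8bfc4f950695a77)))) (.node (nat_lit 22) (.node (nat_lit 21) (.leaf (nat_lit 0xff861bda72de840ce1263a18d5aa2e7c085ed794)) (.leaf (nat_lit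 0x29023bda72ce002de9d183d4b6b0c941fdfa72bd))) (.node (nat_lit 23) (.leaf (nat_lit 0x8bf19e76951035b187c4f950649d4c5b60ebced2)) (.leaf (nat_lit 0x3a738ef2b400b7a08d6d531d07c7e5f10c8b4af3))))) (.node (nat_lit 28) (.node (nat_lit 26) (.node (nat_lit 25) (.leaf (nat_lit 0x7425318440e76d7a549f2f9273218b6aa2fcef1a)) (.leaf (nat_lit 0x216f608c02a5672e75c7827df634cf4454bcef1a))) (.node (nat_lit 27) (.leaf (nat_lit 0x83ad710061a5653e74be27ce9419aa62df1de758)) (.leaf (nat_lit 0x3a6d700823ef253ad3e4f160e7c56c53506cef1a)))) (.node (nat_lit 30) (.node (nat_lit 29) (.leaf (nat_lit 0x6b04094ed7d6c61c64c941fdf291d183d4bed794)) (.leaf (nat_lit 0x5a80294ed7c6423d6e2e7c085ff9263a18da72bd))) (.node (nat_lit 31) (.leaf (nat_lit 0x80ad440ce4c48c3be58b6a9c18a79beebd52fdf)) (.leaf (nat_lit 0x48c339103bcad4c6da9639410efb9e7b55abfe)))))))⟩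
def scC0 : LevCert := ⟨scL0,
    [(nat_lit 28, nat_lit 0), (nat_lit 21, nat_lit 1), (nat_lit 9, nat_lit 2), (nat_lit 13, nat_lit 3), (nat_lit 1, nat_lit 0), (nat_lit 2, nat_lit 1), (nat_lit 16, nat_lit 2), (nat_lit 30, nat_lit 3), (nat_lit 20, nat_lit 5), (nat_lit 6, nat_lit 2), (nat_lit 11, nat_lit 3), (nat_lit 29, nat_lit 5), (nat_lit 8, nat_lit 1), (nat_lit 24, nat_lit 3), (nat_lit 31, nat_lit 0), (nat_lit 14, nat_lit 4), (nat_lit 7, nat_lit 2), (nat_lit 12, nat_lit 3), (nat_lit 17, nat_lit 2), (nat_lit 5, nat_lit 3), (nat_lit 15, nat_lit 1), (nat_lit 23, nat_lit 3), (nat_lit 3, nat_lit 1), (nat_lit 18, nat_lit 3), (nat_lit 4, nat_lit 0), (nat_lit 10, nat_lit 3), (nat_lit 22, nat_lit 3), (nat_lit 19, nat_lit 0), (nat_lit 25, nat_lit 4), (nat_lit 27, nat_lit 5), (nat_lit 26, nat_lit 3)],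
    [[nat_lit 10], [nat_lit 2, nat_lit 12, nat_lit 4, nat_lit 2, nat_lit 6, nat_lit 12, nat_lit 2, nat_lit 6, nat_lit 2, nat_lit 12, nat_lit 10]],
    [nat_lit 0x636b4c675bb5fbc94e1173fdf2150931d4b18820, nat_lit 0x83b9dce37a94e95b5d9f6f9f14188b2a8e918820]⟩
def scL1 : Lev := ⟨nat_lit 4, nat_lit 0xb10, (.node (nat_lit 9) (.node (nat_lit 8) (.leaf (nat_lit 0xffbbcdeb38bdab49ca307b9ac5a928398a418820)) (.leaf (nat_lit 0x8be95d6f199cb9dbdbecf35d049d64514c818820))) (.node (nat_lit 11) (.leaf (nat_lit 0x83b9dce37a94e95b5d9f6f9f14188b2a8e918820)) (.leaf (nat_lit 0x636b4c675bb5fbc94e1173fdf2150931d4b18820))))⟩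
def scC1 : LevCert := ⟨scL1,
    [(nat_lit 11, nat_lit 0), (nat_lit 9, nat_lit 1), (nat_lit 8, nat_lit 1)],
    [],
    []⟩
def sc : List LevCert := [scC0, scC1]
def scL : List Lev := [scL0, scL1]
def zP : ℕ := nat_lit 0xf7eb4ce37a9cbbcbd9ee8c18d52ce64a08510c01
def tP : ℕ := nat_lit 0x52f9dd6f19b5e9594ce64a085f7dee8c18d08062
def sP : ℕ := nat_lit 0x8be95d6f199cb9dbdbecf35d049d64514c818820
def wP : ℕ := nat_lit 0xffb38bda72ad37aef1916bdd05a88929cc818820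
def aHomA : List ℕ := [nat_lit 0x4053, nat_lit 0x654, nat_lit 0x380a, nat_lit 0x4688, nat_lit 0x4688, nat_lit 0x4688, nat_lit 0x4688]
def aHomB : List ℕ := [nat_lit 0xffb24aa3a654b655d82c035d09dcfa4e29c18a2f, nat_lit 0x216f10a80bdc26fcbb43c0ad2e50df478e9636bd, nat_lit 0x9dd00b364c8d0c17f06b12abd2921a760e9ffb3b, nat_lit 0x6b04094ed7d6c61c64c941fdf291d183d4bed794, nat_lit 0x29023bda72ce002de9d183d4b6b0c941fdfa72bd, nat_lit 0x9dd10230adf28cefac5c1d31a9581d0d73b7c4e9, nat_lit 0xa717f79e298215e71b73cdc01af752c5843291ac]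
def aHomS : List ℕ := [nat_lit 0x248de25a3622cf5e02906c644549355870c7ce7598481d6504001083, nat_lit 0x929c5863c542055851e4df21d1db5e164b90d8cc39149a8800c1084, nat_lit 0x1870d15b49745664b1948484073da88a2557d374c3a48de803100042, nat_lit 0x1244715761b71f80819d78b38d32390a25359550f4226a16440c2040, nat_lit 0xa24621c6d85de7451e07d359550f41244b38d32391985a8840c2040, nat_lit 0x1870d54944a4a33cb4e440784865d7d76c588669e81458c3840c2040, nat_lit 0x1985091431639534f8d32e061e70519a89f5dd6c720a2524440c2040]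
def aHomCertL0 : Lev := ⟨nat_lit 5, nat_lit 0x1fffffffe0, (.node (nat_lit 21) (.node (nat_lit 13) (.node (nat_lit 9) (.node (nat_lit 7) (.node (nat_lit 6) (.leaf (nat_lit 0x248e28607de75c6da6585d65544d24503ce34c2ca2481c61440c2040)) (.leaf (nat_lit 0x1e8248956d35df52369d59185265870c3883c740d2c9285183004081))) (.node (nat_lit 8) (.leaf (nat_lit 0xc39e9166548574608db48f2101c929a89d55f4dc60614b343100042)) (.leaf (nat_lit 0x103df4615594e371d4a460724828b35b5d479682268518e304001083)))) (.node (nat_lit 11) (.node (nat_lit 10) (.leaf (nat_lit 0x1871738b7cd74985b30a65e8a068f4145934954461648c81c3081004)) (.leaf (nat_lit 0x1e82420e5cc6ca6631c98525915103d356271a60519d7cd2c00c1084))) (.node (nat_lit 12) (.leaf (nat_lit 0x1354751b4173cd68858b89d31f3a391985219115c61e809284001083)) (.leaf (nat_lit 0x1870a80b88d69b4097973cc7ce7598648c6445493554587204001083))))) (.node (nat_lit 17) (.node (nat_lit 15) (.node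 (nat_lit 14) (.leaf (nat_lit 0x1e80c5233e440a48e5894591e121b5dd7da16219c61354b3440c2040)) (.leaf (nat_lit 0x1870d54944a4a33cb4e440784865d7d76c588669e81458c3840c2040))) (.node (nat_lit 16) (.leaf (nat_lit 0xc39a36029e2562222d41dc5584d148616386465f75b5d03c4001083)) (.leaf (nat_lit 0xe31621e26029b4141d73d29118d984519d61f71356268b342101003)))) (.node (nat_lit 19) (.node (nat_lit 18) (.leaf (nat_lit 0x2164f7531d521a3107e239179280615459791b8cb34929c604003042)) (.leaf (nat_lit 0x1985091431639534f8d32e061e70519a89f5dd6c720a2524440c2040))) (.node (nat_lit 20) (.leaf (nat_lit 0x1985620f5d06e22d41da35219115c61355d31f3a390a260784001083)) (.leaf (nat_lit 0x248de25a3622cf5e02906c644549355870c7ce7598481d6504001083)))))) (.node (nat_lit 29) (.node (nat_lit 25) (.node (nat_lit 23) (.node (nat_lit 22) (.leaf (nat_lit 0x1459f40e88c69c25d3d82a31641914a166035e2d76c7213543100042)) (.leaf (nat_lit 0x239202a22da3506de24f5c54864554dc60e74c7e1647214584001083)))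 (.node (nat_lit 24) (.leaf (nat_lit 0x1b5d289379580f1916901632e434a24c3877c875985c6165000c1084)) (.leaf (nat_lit 0x103df5174db54629d5852486077207998513522ce3248e2680103081)))) (.node (nat_lit 27) (.node (nat_lit 26) (.leaf (nat_lit 0x2164f19671461a45016248d20b1d76c929d91f8ce3154e0783002044)) (.leaf (nat_lit 0xa24621c6d85de7451e07d359550f41244b38d32391985a8840c2040))) (.node (nat_lit 28) (.leaf (nat_lit 0x226a47915d26cd16380b1952532903ce30870761f7616545800c4042)) (.leaf (nat_lit 0xc39a46055e4c54224863c77c875985b5e32e434a2545987000c1084))))) (.node (nat_lit 33) (.node (nat_lit 31) (.node (nat_lit 30) (.leaf (nat_lit 0x1355760818716189b71968990a8ce30b3514123d651e81d7c40c2040)) (.leaf (nat_lit 0x929c5863c542055851e4df21d1db5e164b90d8cc39149a8800c1084))) (.node (nat_lit 32) (.leaf (nat_lit 0x1355744d14b1a08db49e90a68988f40721831c39d7d9856503100042)) (.leaf (nat_lit 0xa2589053863117dc8d275a4223d45a078d6cb5c7219853544001083))))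 (.node (nat_lit 35) (.node (nat_lit 34) (.leaf (nat_lit 0x1870d15b49745664b1948484073da88a2557d374c3a48de803100042)) (.leaf (nat_lit 0x928539891c8d94c632155a5e26c721e80d3cb41459149f740102043))) (.node (nat_lit 36) (.leaf (nat_lit 0x614a6074c85507c970f75b5175a078b35285166390c39a883100042)) (.leaf (nat_lit 0x518944b4cd54c50a48e59b7d776164721c8187a26903e48c40c2040)))))))⟩
def aHomCertC0 : LevCert := ⟨aHomCertL0,
    [(nat_lit 20, nat_lit 0), (nat_lit 30, nat_lit 1), (nat_lit 33, nat_lit 2), (nat_lit 26, nat_lit 4), (nat_lit 14, nat_lit 5), (nat_lit 18, nat_lit 6), (nat_lit 25, nat_lit 1), (nat_lit 24, nat_lit 2), (nat_lit 11, nat_lit 3), (nat_lit 19, nat_lit 4), (nat_lit 8, nat_lit 5), (nat_lit 32, nat_lit 6), (nat_lit 34, nat_lit 0), (nat_lit 6, nat_lit 2), (nat_lit 23, nat_lit 3), (nat_lit 28, nat_lit 4), (nat_lit 10, nat_lit 5), (nat_lit 9, nat_lit 0), (nat_lit 16, nat_lit 1), (nat_lit 7,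 nat_lit 4), (nat_lit 21, nat_lit 5), (nat_lit 35, nat_lit 6), (nat_lit 12, nat_lit 0), (nat_lit 13, nat_lit 4), (nat_lit 29, nat_lit 6), (nat_lit 31, nat_lit 2), (nat_lit 36, nat_lit 3), (nat_lit 15, nat_lit 1), (nat_lit 27, nat_lit 2), (nat_lit 22, nat_lit 3), (nat_lit 17, nat_lit 2)],
    [[nat_lit 4, nat_lit 0, nat_lit 10, nat_lit 6, nat_lit 4, nat_lit 4], [nat_lit 6, nat_lit 8, nat_lit 12, nat_lit 4, nat_lit 2, nat_lit 8]],
    [nat_lit 0x176d851581379289c59169d85f6648ce30d24b2881cf406143081004, nat_lit 0x1d7d672055e4d16946128978db91984d2ce1cc20a24f4061420c0044]⟩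
def aHomCertL1 : Lev := ⟨nat_lit 7, nat_lit 0x16280, (.node (nat_lit 13) (.node (nat_lit 9) (.leaf (nat_lit 0x248e28607de75c6da6585d65544d24503ce34c2ca2481c61440c2040)) (.leaf (nat_lit 0x176d851581379289c59169d85f6648ce30d24b2881cf406143081004))) (.node (nat_lit 14) (.leaf (nat_lit 0x1d7d672055e4d16946128978db91984d2ce1cc20a24f4061420c0044)) (.node (nat_lit 16) (.leaf (nat_lit 0x226926e38247995915e151371561d7ce30724828f40b346143001102)) (.leaf (nat_lit 0x135574608de92151b4995a27da75870720e40c3ca24b3461400c4042)))))⟩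
def aHomCertC1 : LevCert := ⟨aHomCertL1,
    [(nat_lit 9, nat_lit 0), (nat_lit 13, nat_lit 1), (nat_lit 14, nat_lit 0), (nat_lit 16, nat_lit 1)],
    [[nat_lit 0, nat_lit 2, nat_lit 2, nat_lit 2, nat_lit 0, nat_lit 2, nat_lit 0], [nat_lit 4, nat_lit 2, nat_lit 2, nat_lit 4, nat_lit 4, nat_lit 4, nat_lit 4]],
    [nat_lit 0x1149762285a65d79b71f8169148d354928e40c3cb3481c61410c4080, nat_lit 0x248de75c6d85da6607e28515925135503c938a30b3481c6144043080]⟩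
def aHomCertL2 : Lev := ⟨nat_lit 9, nat_lit 0x16200, (.node (nat_lit 14) (.node (nat_lit 13) (.leaf (nat_lit 0x248e28607de75c6da6585d65544d24503ce34c2ca2481c61440c2040)) (.leaf (nat_lit 0x154e07d761b71969e7618964544a390d2ce24c28f4081c61420c1100))) (.node (nat_lit 16) (.leaf (nat_lit 0x248de75c6d85da6607e28515925135503c938a30b3481c6144043080)) (.leaf (nat_lit 0x1149762285a65d79b71f8169148d354928e40c3cb3481c61410c4080))))⟩
def aHomCertC2 : LevCert := ⟨aHomCertL2,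
    [(nat_lit 16, nat_lit 0), (nat_lit 14, nat_lit 1), (nat_lit 13, nat_lit 0)],
    [[nat_lit 2, nat_lit 0, nat_lit 0, nat_lit 2, nat_lit 0]],
    [nat_lit 0x154db7196a189e7576207e45a351244d2d038f30a2481c6142103040]⟩
def aHomCertL3 : Lev := ⟨nat_lit 11, nat_lit 0x9800, (.node (nat_lit 12) (.leaf (nat_lit 0x248e28607de75c6da6585d65544d24503ce34c2ca2481c61440c2040)) (.node (nat_lit 15) (.leaf (nat_lit 0x1651d7985dc6e189f8196959138d244e30d40b3ca2481c6143084040)) (.leaf (nat_lit 0x154db7196a189e7576207e45a351244d2d038f30a2481c6142103040))))⟩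
def aHomCertC3 : LevCert := ⟨aHomCertL3,
    [(nat_lit 15, nat_lit 0), (nat_lit 12, nat_lit 0)],
    [],
    []⟩
def aHomCert : List LevCert := [aHomCertC0, aHomCertC1, aHomCertC2, aHomCertC3]
def aHomCertL : List Lev := [aHomCertL0, aHomCertL1, aHomCertL2, aHomCertL3]
def aHomCertAL0 : Lev := ⟨nat_lit 0, nat_lit 31, (.node (nat_lit 2) (.node (nat_lit 1) (.leaf (nat_lit 0x4688)) (.leaf (nat_lit 0x3444))) (.node (nat_lit 3) (.leaf (nat_lit 0x380a)) (.node (nat_lit 4) (.leaf (nat_lit 0x4053)) (.leaf (nat_lit 0x654)))))⟩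
def aHomCertAC0 : LevCert := ⟨aHomCertAL0,
    [(nat_lit 3, nat_lit 0), (nat_lit 4, nat_lit 1), (nat_lit 2, nat_lit 2), (nat_lit 1, nat_lit 0)],
    [[nat_lit 0, nat_lit 6, nat_lit 8, nat_lit 2, nat_lit 0], [nat_lit 4, nat_lit 6, nat_lit 2, nat_lit 8, nat_lit 10]],
    [nat_lit 0x3850, nat_lit 0x32a0]⟩
def aHomCertAL1 : Lev := ⟨nat_lit 1, nat_lit 30, (.node (nat_lit 3) (.node (nat_lit 2) (.leaf (nat_lit 0x4688)) (.leaf (nat_lit 0x3850))) (.node (nat_lit 4) (.leaf (nat_lit 0x32a0)) (.leaf (nat_lit 0x1710))))⟩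
def aHomCertAC1 : LevCert := ⟨aHomCertAL1,
    [(nat_lit 2, nat_lit 0), (nat_lit 3, nat_lit 1), (nat_lit 4, nat_lit 0)],
    [[nat_lit 0, nat_lit 0, nat_lit 0, nat_lit 2, nat_lit 0]],
    [nat_lit 0x28c8]⟩
def aHomCertAL2 : Lev := ⟨nat_lit 2, nat_lit 28, (.node (nat_lit 3) (.leaf (nat_lit 0x4688)) (.node (nat_lit 4) (.leaf (nat_lit 0x3508)) (.leaf (nat_lit 0x28c8))))⟩
def aHomCertAC2 : LevCert := ⟨aHomCertAL2,
    [(nat_lit 4, nat_lit 0), (nat_lit 3, nat_lit 0)],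
    [],
    []⟩
def aHomCertA : List LevCert := [aHomCertAC0, aHomCertAC1, aHomCertAC2]
def aHomCertAL : List Lev := [aHomCertAL0, aHomCertAL1, aHomCertAL2]
def c1a : Cls := ⟨nat_lit 0xffbbcdeb38bdab49ca307b9ac5a928398a418820, 1920, [nat_lit 0xffffffff, nat_lit 0xb14, nat_lit 0xb10, nat_lit 0x4c0]⟩
def c2a : Cls := ⟨nat_lit 0xf7eb4ce37a9cbbcbd9ee8c18d52ce64a08510c01, 1920, [nat_lit 0xffffffff, nat_lit 0xb14, nat_lit 0xb10, nat_lit 0x4c0]⟩
def c2b : Cls := ⟨nat_lit 0x52f9dd6f19b5e9594ce64a085f7dee8c18d08062, 192, [nat_lit 0x3ffc000f, nat_lit 4, nat_lit 0xb10, nat_lit 0x4c0]⟩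
def c2c : Cls := ⟨nat_lit 0xde74fff7d574b1185a93e5d8d49d685186229020, 16, [nat_lit 323, nat_lit 0xa14, nat_lit 16, nat_lit 64]⟩
def c3a : Cls := ⟨nat_lit 0xa7238efebe859fa74b6dcb2f35a92238cc829020, 24, [nat_lit 0x440e83, nat_lit 276, nat_lit 16, nat_lit 64]⟩
def c4a : Cls := ⟨nat_lit 0xa717f79e298215e71b73cdc01af752c5843291ac, 96, [nat_lit 0xffffffff, nat_lit 4, nat_lit 16, nat_lit 0x4c0]⟩
def c4b : Cls := ⟨nat_lit 0x6b2c71fc5ed1a49c2361c82f3ed60a72e2f2929c, 16, [nat_lit 0xd5997283, nat_lit 4, nat_lit 16, nat_lit 64]⟩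
def c5a : Cls := ⟨nat_lit 0xde616c474fff5d2f566dbb39449d0230d4b29020, 10, [nat_lit 3, nat_lit 0xb14, nat_lit 16, nat_lit 64]⟩
def c5b : Cls := ⟨nat_lit 0x9ddfaf57fdb4238939bb667944184919d4b29020, 10, [nat_lit 3, nat_lit 0xb14, nat_lit 16, nat_lit 64]⟩
def c6a : Cls := ⟨nat_lit 0xe51faafbbf74a3885b2cdb67752ce34890621401, 24, [nat_lit 0x440e83, nat_lit 276, nat_lit 16, nat_lit 64]⟩
def c6b : Cls := ⟨nat_lit 0x322f6ad3bcc6672d6d475a485743cffc58d08062, 12, [nat_lit 15, nat_lit 4, nat_lit 16, nat_lit 0x4c0]⟩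
def c6c : Cls := ⟨nat_lit 0x3a73894ed7ef37aad0ca42c857c5de87d8d08062, 12, [nat_lit 15, nat_lit 4, nat_lit 16, nat_lit 0x4c0]⟩
def c8a : Cls := ⟨nat_lit 0xaf68b35d134ef8a3e65ab60a4f7dcf8442063462, 8, [nat_lit 0x303f, nat_lit 4, nat_lit 16, nat_lit 64]⟩
def c10a : Cls := ⟨nat_lit 0xde7d7c374c753f387251b3ebd291435890649c01, 10, [nat_lit 3, nat_lit 0xb14, nat_lit 16, nat_lit 64]⟩
def c10b : Cls := ⟨nat_lit 0xb49bd9bef17659586e9fe7b1a3a4a3209065a801, 10, [nat_lit 3, nat_lit 0xb14, nat_lit 16, nat_lit 64]⟩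
def c12a : Cls := ⟨nat_lit 0xbcecb2ec994564a37714d70e9f7dae640208bc62, 12, [nat_lit 0xf02803f, nat_lit 4, nat_lit 16, nat_lit 64]⟩
def cl : List Cls := [c1a, c2a, c2b, c2c, c3a, c4a, c4b, c5a, c5b, c6a, c6b, c6c, c8a, c10a, c10b, c12a]
def cjI : List ℕ := [nat_lit 0xffbbcdeb38bdab49ca307b9ac5a928398a418820, nat_lit 0xffbbcdeb38bdab49ca307b9ac5a928398a418820, nat_lit 0xbcfdb7f234933f9b35da862bd2144b1a8e932020]
def tcj : List ℕ := [nat_lit 0xc6a29339105fde757add95462ceefc9d0206b0a4, nat_lit 0xb4afe669b87527f87335df62f5a888298623a420, nat_lit 0xa7238efebe859fa74b6dcb2f35a92238cc829020, nat_lit 0xc6a37655bd581f3507e4f15274187c15256cedd0]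
def tqG : List ℕ := [nat_lit 0x5aa95c675b94f9db5d28398a4ffa307b9ac00443, nat_lit 0x9dd10230adf28cefac5c1d31a9581d0d73b7c4e9, nat_lit 0xed7eb3bd31443ca33b16d4862e5337dcc206b0a4, nat_lit 0x10da5821c68a58479efb9e7b5006da96394f7d4b]
def tqL0 : Lev := ⟨nat_lit 0, nat_lit 0xffffffff, (.node (nat_lit 16) (.node (nat_lit 8) (.node (nat_lit 4) (.node (nat_lit 2) (.node (nat_lit 1) (.leaf (nat_lit 0xffbbcdeb38bdab49ca307b9ac5a928398a418820)) (.leaf (nat_lit 0xf7eb4ce37a9cbbcbd9ee8c18d52ce64a08510c01))) (.node (nat_lit 3) (.leaf (nat_lit 0x52f9dd6f19b5e9594ce64a085f7dee8c18d08062)) (.leaf (nat_lit 0x5aa95c675b94f9db5d28398a4ffa307b9ac00443)))) (.node (nat_lit 6) (.node (nat_lit 5) (.leaf (nat_lit 0xed7eb3bd31443ca33b16d4862e5337dcc206b0a4)) (.leaf (nat_lit 0xaf7ca4c4ef33beb44352c5843a7373cdc0163485))) (.node (nat_lit 7) (.leaf (nat_lit 0xde531fafca230ef2b783a0a56d63a1a827783906)) (.leaf (nat_lit 0xbccce2b48cfad10f287417358b4835077798bd27)))))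 (.node (nat_lit 12) (.node (nat_lit 10) (.node (nat_lit 9) (.leaf (nat_lit 0xceceff2beb2b53123282e0ed2c6aa0e86f3740c8)) (.leaf (nat_lit 0x9dd10230adf28cefac5c1d31a9581d0d73b7c4e9))) (.node (nat_lit 11) (.leaf (nat_lit 0x1898471a0879da58a679beebd08258b6a9cff96a)) (.leaf (nat_lit 0x10da5821c68a58479efb9e7b5006da96394f7d4b)))) (.node (nat_lit 14) (.node (nat_lit 13) (.leaf (nat_lit 0xe515e8a5e77197f82337dcc20ed716d48622158d)) (.leaf (nat_lit 0xa717f79e298215e71b73cdc01af752c5843291ac))) (.node (nat_lit 15) (.leaf (nat_lit 0xd61e75797f69629613a1a8277de783a0a56321d0)) (.leaf (nat_lit 0xb4a08611a5579c65fc3507779bcc74173583a5f1)))))) (.node (nat_lit 24) (.node (nat_lit 20) (.node (nat_lit 18) (.node (nat_lit 17) (.leaf (nat_lit 0xc6a295fd5e611e7696a0e86f3cee82e0ed241a0e)) (.leaf (nat_lit 0x959c6695845fe085781d0d73b9dc5c1d31a49e2f))) (.node (nat_lit 19) (.leaf (nat_lit 0x7c75ba579d18719103e5f10c83a56d531d09de56))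 (.leaf (nat_lit 0x49f7aad3bc08f380094c5b60e8bfc4f950695a77)))) (.node (nat_lit 22) (.node (nat_lit 21) (.leaf (nat_lit 0x63461b5e53c6440d6d07327fe2160f7456aaf69c)) (.leaf (nat_lit 0x29023bda72ce002de9d183d4b6b0c941fdfa72bd))) (.node (nat_lit 23) (.leaf (nat_lit 0x8bf19e76951035b187c4f950649d4c5b60ebced2)) (.leaf (nat_lit 0x3a738ef2b400b7a08d6d531d07c7e5f10c8b4af3))))) (.node (nat_lit 28) (.node (nat_lit 26) (.node (nat_lit 25) (.leaf (nat_lit 0x7425318440e76d7a549f2f9273218b6aa2fcef1a)) (.leaf (nat_lit 0x41a7208c02ef2f6ad1aa62df1838be27ce9c6b3b))) (.node (nat_lit 27) (.leaf (nat_lit 0x83ad710061a5653e74be27ce9419aa62df1de758)) (.leaf (nat_lit 0x322f600823ad272ef18b6aa2f7409f2f927d6379)))) (.node (nat_lit 30) (.node (nat_lit 29) (.leaf (nat_lit 0x6b04094ed7d6c61c64c941fdf291d183d4bed794)) (.leaf (nat_lit 0x214029caf6de823ce20f7456a63507327fee53b5))) (.node (nat_lit 31) (.leaf (nat_lit 0x80ad440ce4c48c3be58b6a9c18a79beebd52fdf))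 (.leaf (nat_lit 0x48c339103bcad4c6da9639410efb9e7b55abfe)))))))⟩
def tqC0 : LevCert := ⟨tqL0,
    [(nat_lit 3, nat_lit 0), (nat_lit 9, nat_lit 1), (nat_lit 4, nat_lit 2), (nat_lit 11, nat_lit 3), (nat_lit 15, nat_lit 1), (nat_lit 13, nat_lit 2), (nat_lit 30, nat_lit 3), (nat_lit 17, nat_lit 0), (nat_lit 25, nat_lit 2), (nat_lit 22, nat_lit 3), (nat_lit 12, nat_lit 0), (nat_lit 27, nat_lit 1), (nat_lit 20, nat_lit 3), (nat_lit 31, nat_lit 0), (nat_lit 18, nat_lit 1), (nat_lit 28, nat_lit 2), (nat_lit 7, nat_lit 0), (nat_lit 26, nat_lit 2), (nat_lit 19, nat_lit 3), (nat_lit 5, nat_lit 0), (nat_lit 24, nat_lit 1), (nat_lit 29, nat_lit 3), (nat_lit 10, nat_lit 0), (nat_lit 23, nat_lit 1), (nat_lit 21, nat_lit 2), (nat_lit 2, nat_lit 1), (nat_lit 14, nat_lit 3), (nat_lit 16, nat_lit 2), (nat_lit 1, nat_lit 1), (nat_lit 8, nat_lit 3), (nat_lit 6, nat_lit 2)],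
    [],
    []⟩
def tq : List LevCert := [tqC0]
def tqL : List Lev := [tqL0]
theorem hc_ok : (allL hG (valid (nat_lit 5) (nat_lit 32) (nat_lit 32)) && ssOK (nat_lit 5) (nat_lit 32) (nat_lit 32) hc hG) = true := by decide +kernel
theorem qc_ok : (allL qG (valid (nat_lit 5) (nat_lit 32) (nat_lit 32)) && ssOK (nat_lit 5) (nat_lit 32) (nat_lit 32) qc qG) = true := by decide +kernel
theorem ac_ok : (allL aG (valid (nat_lit 5) (nat_lit 32) (nat_lit 32)) && ssOK (nat_lit 5) (nat_lit 32) (nat_lit 32) ac aG) = true := by decide +kernel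
theorem sc_ok : (allL sG (valid (nat_lit 5) (nat_lit 32) (nat_lit 32)) && ssOK (nat_lit 5) (nat_lit 32) (nat_lit 32) sc sG) = true := by decide +kernel
theorem aHom_ok : isoOK 5 3 8 (nat_lit 32) (nat_lit 5) (nat_lit 32) 37 6 Alt.a5CL hcL aHomA aHomB aHomS aHomCert aHomCertA = true := by
  decide +kernel
theorem aHom_ss : ssOK 6 64 37 aHomCert aHomS = true := by decide +kernel
theorem cl_ok : allL cl (clsOK (nat_lit 5) (nat_lit 32) (nat_lit 32) hcL 0) = true := by decide +kernel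
theorem cl_pairs : pairsOK (nat_lit 5) (nat_lit 32) (nat_lit 32) hcL 0 cl = true := by decide +kernel

end Cfsg.Agent.H57.E32
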