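/- kernel checks (generated) -/
import Cfsg.Agent.H57.OutJ2D

set_option autoImplicit false
set_option maxRecDepth 100000

namespace Cfsg.Agent.H57.OutJ2

open Cfsg.Agent.H14 Cfsg.Agent.H55

theorem cl4_0 : leafOK (lk1 (nat_lit 7) (nat_lit 127)) t0 (nat_lit 100) (nat_lit 0) (nat_lit 100) (nat_lit 16925) T8 T9 = true := by
  decide +kernel

theorem cl5_0 : leafOK (lk1 (nat_lit 7) (nat_lit 127)) t0 (nat_lit 100) (nat_lit 0) (nat_lit 100) (nat_lit 0x6e37df78) T10 T11 = true := by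
  decide +kernel

theorem cl6_0 : leafOK (lk1 (nat_lit 7) (nat_lit 127)) t0x (nat_lit 100) (nat_lit 0) (nat_lit 100) (nat_lit 85) T12 T13 = true := by
  decide +kernel

theorem cl7_0 : leafOK (lk1 (nat_lit 7) (nat_lit 127)) t0x (nat_lit 100) (nat_lit 0) (nat_lit 100) (nat_lit 0x441ffe20) T14 T14 = true := by
  decide +kernel

theorem cl8_0 : leafOK (lk1 (nat_lit 7) (nat_lit 127)) t2 (nat_lit 100) (nat_lit 0) (nat_lit 100) (nat_lit 0xb6f792b) T16 T17 = true := by
  decide +kernel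

theorem cl9_0 : leafOK (lk1 (nat_lit 7) (nat_lit 127)) t2 (nat_lit 100) (nat_lit 0) (nat_lit 100) (nat_lit 0x94a57b) T18 T19 = true := by
  decide +kernel

theorem cl10_0 : leafOK (lk1 (nat_lit 7) (nat_lit 127)) t2 (nat_lit 100) (nat_lit 0) (nat_lit 100) (nat_lit 0x2494a5) T20 T21 = true := by
  decide +kernel

theorem cl11_0 : leafOK (lk1 (nat_lit 7) (nat_lit 127)) t2 (nat_lit 100) (nat_lit 0) (nat_lit 100) (nat_lit 0x4a5296f) T22 T23 = true := by
  decide +kernel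

theorem cl12_0 : leafOK (lk1 (nat_lit 7) (nat_lit 127)) t2 (nat_lit 100) (nat_lit 0) (nat_lit 100) (nat_lit 0x25e5e565) T24 T25 = true := by
  decide +kernel

theorem cl13_0 : leafOK (lk1 (nat_lit 7) (nat_lit 127)) t2 (nat_lit 100) (nat_lit 0) (nat_lit 100) (nat_lit 0x95e52b) T26 T27 = true := by
  decide +kernel

theorem cl14_0 : leafOK (lk1 (nat_lit 7) (nat_lit 127)) t2 (nat_lit 100) (nat_lit 0) (nat_lit 100) (nat_lit 0x24a579) T28 T29 = true := by
  decide +kernel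

theorem cl15_0 : leafOK (lk1 (nat_lit 7) (nat_lit 127)) t2 (nat_lit 100) (nat_lit 0) (nat_lit 100) (nat_lit 0x94bc92f) T30 T31 = true := by
  decide +kernel

theorem cl16_0 : leafOK (lk1 (nat_lit 7) (nat_lit 127)) s0 (nat_lit 100) (nat_lit 0) (nat_lit 100) (nat_lit 0x129312727) T32 T33 = true := by
  decide +kernel

theorem cl17_0 : leafOK (lk1 (nat_lit 7) (nat_lit 127)) s0 (nat_lit 100) (nat_lit 0) (nat_lit 100) (nat_lit 0x1750b4e97) T34 T35 = true := by
  decide +kernel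

theorem cl18_0 : leafOK (lk1 (nat_lit 7) (nat_lit 127)) s0 (nat_lit 100) (nat_lit 0) (nat_lit 100) (nat_lit 0x1dd80c2) T36 T37 = true := by
  decide +kernel

theorem cl19_0 : leafOK (lk1 (nat_lit 7) (nat_lit 127)) s1 (nat_lit 100) (nat_lit 0) (nat_lit 100) (nat_lit 0x1fd297) T38 T39 = true := by
  decide +kernel

theorem cl20_0 : leafOK (lk1 (nat_lit 7) (nat_lit 127)) s1 (nat_lit 100) (nat_lit 0) (nat_lit 100) (nat_lit 96920) T40 T41 = true := by
  decide +kernel

theorem cl21_0 : leafOK (lk1 (nat_lit 7) (nat_lit 127)) s2 (nat_lit 100) (nat_lit 0) (nat_lit 100) (nat_lit 0x1cc3bb) T42 T43 = true := by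
  decide +kernel

theorem cg : preOK (lk1 (nat_lit 7) (nat_lit 127)) tt (nat_lit 100) (nat_lit 2048) (fun _ => true) gCs [] = true := by
  decide +kernel

theorem cc : preOK (lk1 (nat_lit 7) (nat_lit 127)) tt (nat_lit 100) (nat_lit 2048) (fun f => agree bs (fun i => f (lk1 (nat_lit 7) (nat_lit 127) T14 i)) (fun i => lk1 (nat_lit 7) (nat_lit 127) T14 (f i))) cCs [] = true := by
  decide +kernel

theorem cpc : mkL (lk1 (nat_lit 7) (nat_lit 127)) tt pcg (fun fs => pcOK bs (nat_lit 2) fs pcc) = true := by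
  decide +kernel

theorem ctl : mkL (lk1 (nat_lit 7) (nat_lit 127)) tt pcg (fun fs => tlOK (lk1 (nat_lit 7) (nat_lit 127)) tt bs fs tls) = true := by
  decide +kernel

theorem ct1 : mkL (lk1 (nat_lit 7) (nat_lit 127)) tt pcg (fun fs => H55.t1 (lk1 (nat_lit 7) (nat_lit 127)) tt (nat_lit 100) (leafO (lk1 (nat_lit 7) (nat_lit 127)) tt (nat_lit 100) (nat_lit 2) bs fs (lk1 (nat_lit 7) (nat_lit 127) T14) exts) tls ct0 (fun i => i) (fun i => i) []) = true := by
  decide +kernel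

theorem cx : xOK (lk1 (nat_lit 7) (nat_lit 127)) tt (nat_lit 100) bs (lk1 (nat_lit 7) (nat_lit 127) T12) (nat_lit 7) (nat_lit 0) (nat_lit 0x69133601238f) (nat_lit 3) ks = true := by
  decide +kernel

theorem cd : (agree bs (iterF (lk1 (nat_lit 7) (nat_lit 127) T14) (nat_lit 2)) (fun i => i) && (Nat.blt (nat_lit 2) (nat_lit 100) && !Nat.beq (lk1 (nat_lit 7) (nat_lit 127) T14 (nat_lit 2)) (nat_lit 2))) = true := by
  decide +kernel

theorem cts : testsOK (nat_lit 100) bs (lk1 (nat_lit 7) (nat_lit 127) T12) (lk1 (nat_lit 7) (nat_lit 127) T13) (lk1 (nat_lit 7) (nat_lit 127) T14) tsts = true := by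
  decide +kernel

theorem cp0 : piOK (nat_lit 100) (nat_lit 0) (nat_lit 100) (lk1 (nat_lit 7) (nat_lit 127) Tp) (lk1 (nat_lit 7) (nat_lit 127) Tp') (lk1 (nat_lit 7) (nat_lit 127) T12) (lk1 (nat_lit 7) (nat_lit 127) T14) (run (lk1 (nat_lit 7) (nat_lit 127)) tt (nat_lit 0x1de1d984355)) (run (lk1 (nat_lit 7) (nat_lit 127)) tt (nat_lit 0xf70e8c4622)) = true := by
  decide +kernel

theorem cfix : fixOK (lk1 (nat_lit 7) (nat_lit 127)) tt (nat_lit 100) (nat_lit 14) [nat_lit 16, nat_lit 56, nat_lit 44] = true := by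
  decide +kernel

theorem cnin : notIn (lk1 (nat_lit 7) (nat_lit 127) Tp) gL0.D (nat_lit 1) (gCs.map LvC.L) = true := by
  decide +kernel

theorem cgd : goodsOK (lk1 (nat_lit 7) (nat_lit 127)) tt t1 bs (lk1 (nat_lit 7) (nat_lit 127) T12) (lk1 (nat_lit 7) (nat_lit 127) T14) (run (lk1 (nat_lit 7) (nat_lit 127)) tt (nat_lit 0x1de1d984355)) (run (lk1 (nat_lit 7) (nat_lit 127)) tt (nat_lit 0xf70e8c4622)) ks = true := by
  decide +kernel

theorem cld : ldOK (lk1 (nat_lit 7) (nat_lit 127) T12) (nat_lit 100) qs (nat_lit 62) ld cv (nat_lit 7) = true := by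
  decide +kernel

theorem cs0 : clsO (lk1 (nat_lit 7) (nat_lit 127)) tt t1 (lk1 (nat_lit 7) (nat_lit 127) T14) (nat_lit 100) qs (nat_lit 62) ld cv (nat_lit 7) (nat_lit 8192) ks tsts (nat_lit 0x1e2ab4) (nat_lit 315) [nat_lit 0xc6f40c82208da0e184702af122018054a0788ad8dac43030c1b80adc0d6249123082e0783181890ea460c332006887856991a1c48d5877c37e1978c2c6710338400ea204805fc03013c0dc3b211101384722e51918d4061e05212e8cb80da06f02b885a10e3691a709dc66e3740218c284082e9100886466a33a02b09c851800b148679222711f031888626406114e8c4460b12d13608cc0b82b316301144b82b5] (nat_lit 0) (nat_lit 0) = true := by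
  decide +kernel


end Cfsg.Agent.H57.OutJ2
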