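/-
General lemmas for the recognition of a rank 3 action: searches through fixed points, invariant sets, Sylow arguments.
-/
import Cfsg.Agent.H55.OutK

set_option autoImplicit false

namespace Cfsg.Agent.H57Ru

open Cfsg.Agent.H14 Cfsg.Agent.H55 Cfsg.Agent.H55.AM

section
variable {G Ω : Type*} [Group G] [MulAction G Ω] {N : ℕ} {A : AM G Ω N} {τ : Type}

/-- search for the elements which permute the fixed points of given elements -/
theorem t1_free {lk : τ → ℕ → ℕ} {H : Subgroup G} {t : TT τ} (hv : A.Valid lk H t)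
    {leafP : (ℕ → ℕ) → ℕ → ℕ → ℕ → Bool} {c : G} {cs : List TL} {rest : List Lv}
    (hh : ∀ L ∈ cs, L.free = true ∧ ∀ h ∈ L.hs, ∃ g : G, A.Fn g (wF lk t h.1) ∧ ∀ x : Ω, g • x = x → g • c • x = c • x)
    {K : Subgroup G} (hE : A.Ex (cs.map TL.L ++ rest) K) {prev : List ℕ} (hp : ∀ q ∈ prev, q < N)
    (hK : ∀ g, g ∈ K ↔ ∀ q ∈ prev, g • A.code q = A.code q) {U : G} {f f' : ℕ → ℕ} (hf : A.Fn U f)
    (hf' : A.Fn U⁻¹ f') (hU : U⁻¹ * c ∈ K) {ct : CT} (hc : t1 lk t N leafP cs ct f f' prev = true) :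
    ∃ U f k a b, A.Fn U f ∧ leafP f k a b = true ∧
      ∀ q, q ∈ prev ∨ q ∈ cs.map (fun L => L.L.b) → (U⁻¹ * c) • A.code q = A.code q := by
  induction cs generalizing K prev U f f' ct with
  | nil =>
    cases ct with
    | nil => exact absurd hc Bool.false_ne_true
    | leaf k a b => exact ⟨U, f, k, a, b, hf, hc, fun q hq => (hK _).1 hU q (by simpa using hq)⟩
    | cons => exact absurd hc Bool.false_ne_true
  | cons L cs ih =>
    have e : t1 lk t N leafP (L :: cs) ct f f' prev =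
      (mkL lk t (L.hs.map Prod.fst) (fun hf => candOK N L hf ct f f' prev) &&
      ct.all fun γ u sub => wf lk t u fun g g' =>
        agree prev g f && Nat.beq (g L.L.b) γ && t1 lk t N leafP cs sub g g' (L.L.b :: prev)) := rfl
    rw [e, mkL_eq, Bool.and_eq_true] at hc
    obtain ⟨hb, -, hD, hE'⟩ := hE
    obtain ⟨j, hj, hjD, hjb⟩ := hD _ hU
    have hcb : c • A.code L.L.b = A.code (f j) := by
      rw [← hf.smul hj, ← hjb, ← mul_smul, mul_inv_cancel_left]
    have hγ : f' (f j) = j := by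
      rw [← hf'.smul_eq_iff (hf.lt hj) hj, ← hf.smul hj, inv_smul_smul]
    have hcq : ∀ q ∈ prev, c • A.code q = U • A.code q := fun q hq => by
      have := (hK _).1 hU q hq
      rw [mul_smul, inv_smul_eq_iff] at this
      exact this
    have hm : ct.mem (f j) = true := by
      have h1 := hc.1
      unfold candOK at h1
      rw [(hh L List.mem_cons_self).1] at h1
      simp only [Bool.and_eq_true, allL_iff, allN_iff, beq_iff, bimp_iff] at h1
      refine h1.2 (f j) (hf.lt hj) (fun h hh' => ?_) (by rw [hγ]; exact hjD)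
      obtain ⟨w, hw, rfl⟩ := List.mem_map.1 hh'
      obtain ⟨x, hx, rfl⟩ := List.mem_map.1 hw
      obtain ⟨g, hgf, hg⟩ := (hh L List.mem_cons_self).2 x hx
      rw [← hgf.smul_eq_iff (hf.lt hj) (hf.lt hj), ← hcb, hg _ (by rw [hgf.smul hb, h1.1 _ hh'])]
    obtain ⟨u, sub, h2⟩ := CT.spec hm hc.2
    rw [wf_eq, Bool.and_eq_true, Bool.and_eq_true, agree_iff, beq_iff] at h2
    obtain ⟨U', -, h3, h4⟩ := hv.wf u
    obtain ⟨U, f, k, a, b, h5, h6, h7⟩ := ih (fun L' hL' => hh L' (List.mem_cons_of_mem _ hL')) hE'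
      (prev := L.L.b :: prev) (List.forall_mem_cons.2 ⟨hb, hp⟩) (fun g => by
        rw [List.forall_mem_cons, Subgroup.mem_inf, hK, MulAction.mem_stabilizer_iff, and_comm]) h3 h4
      ⟨(hK _).2 fun q hq => by
        rw [mul_smul, inv_smul_eq_iff, hcq q hq, hf.smul (hp q hq), h3.smul (hp q hq), h2.1.1 q hq], by
        show (U'⁻¹ * c) • A.code L.L.b = A.code L.L.b
        rw [mul_smul, inv_smul_eq_iff, hcb, h3.smul hb, h2.1.2]⟩ h2.2
    exact ⟨U, f, k, a, b, h5, h6, fun q hq => h7 q (by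
      simp only [List.map_cons, List.mem_cons] at hq ⊢; tauto)⟩

theorem orb_mem_iff {K : Subgroup G} {b m n : ℕ} (h : A.OrbIn K b m n) {S : Set Ω}
    (hS : ∀ g ∈ K, ∀ x ∈ S, g • x ∈ S) {x : ℕ} (hx : tb m x = true) : A.code x ∈ S ↔ A.code b ∈ S := by
  obtain ⟨-, g, hg, e⟩ := h.1 x hx
  rw [← e]
  exact ⟨fun h => by simpa using hS _ (inv_mem hg) _ h, hS g hg _⟩

theorem orb_le_ncard [Finite Ω] {K : Subgroup G} {b m n : ℕ} (h : A.OrbIn K b m n) {S : Set Ω}
    (hS : ∀ g ∈ K, ∀ x ∈ S, g • x ∈ S) (hb : A.code b ∈ S) : n ≤ S.ncard := by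
  rw [← h.image_subset.1]
  refine Set.ncard_le_ncard ?_
  rintro _ ⟨i, hi, rfl⟩
  exact (orb_mem_iff h hS hi.2).2 hb

theorem orb_mul_le [Finite Ω] [Finite G] {K M : Subgroup G} {b m n : ℕ} (h : A.OrbIn K b m n) (hM : M ≤ K)
    (hb : ∀ g ∈ M, g • A.code b = A.code b) : n * Nat.card M ≤ Nat.card K := by
  rw [card_eq_orbit_mul K (A.code b)]
  refine Nat.mul_le_mul ?_ (Subgroup.card_le_of_le fun g hg => ⟨hM hg, hb g hg⟩)
  rw [← h.image_subset.1]
  exact Set.ncard_le_ncard h.image_subset.2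

open Classical in
theorem ncard_le_sum [Finite Ω] {K : Subgroup G} {Ls : List Lv} (h : ∀ L ∈ Ls, A.OrbIn K L.b L.D L.s) {S : Set Ω}
    (hS : ∀ g ∈ K, ∀ x ∈ S, g • x ∈ S) {T : Set Ω} (hT : T ⊆ S)
    (hc : ∀ x ∈ T, ∃ L ∈ Ls, ∃ i, tb L.D i = true ∧ A.code i = x) :
    T.ncard ≤ (Ls.map fun L => if A.code L.b ∈ S then L.s else 0).sum := by
  induction Ls generalizing T with
  | nil => rw [show T = ∅ from Set.eq_empty_of_forall_notMem fun x hx => by simpa using hc x hx]; simp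
  | cons L Ls ih =>
    have hL := h L List.mem_cons_self
    rw [List.map_cons, List.sum_cons, ← Set.ncard_inter_add_ncard_sdiff_eq_ncard T (A.code '' {i | i < N ∧ tb L.D i = true})]
    refine Nat.add_le_add ?_ (ih (fun L' hL' => h L' (List.mem_cons_of_mem _ hL')) (Set.sdiff_subset.trans hT) ?_)
    · split_ifs with hb
      · rw [← hL.image_subset.1]; exact Set.ncard_le_ncard Set.inter_subset_right
      · rw [Nat.le_zero, Set.ncard_eq_zero]
        refine Set.eq_empty_of_forall_notMem ?_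
        rintro _ ⟨h1, i, hi, rfl⟩
        exact hb ((orb_mem_iff hL hS hi.2).1 (hT h1))
    · rintro x ⟨h1, h2⟩
      obtain ⟨L', hL', i, hi, rfl⟩ := hc x h1
      rcases List.mem_cons.1 hL' with rfl | hL'
      · exact absurd ⟨i, ⟨(hL.1 i hi).1, hi⟩, rfl⟩ h2
      · exact ⟨L', hL', i, hi, rfl⟩

end

section
variable {G : Type*} [Group G] [Finite G]

theorem exists_ext {K W : Subgroup G} {n : ℕ} (hWK : W ≤ K) (hW : Nat.card W = 2 ^ n) (hK : 2 ^ (n + 1) ∣ Nat.card K) :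
    ∃ V : Subgroup G, W ≤ V ∧ V ≤ K ∧ Nat.card V = 2 ^ (n + 1) ∧
      ∀ a ∈ V, ∀ b ∈ V, (a * b ∈ W ↔ (a ∈ W ↔ b ∈ W)) := by
  obtain ⟨V, h1, h2⟩ := Sylow.exists_subgroup_card_pow_succ hK (H := W.subgroupOf K)
    ((Nat.card_congr (Subgroup.subgroupOfEquivOfLe hWK).toEquiv).trans hW)
  have h3 : W ≤ V.map K.subtype := fun x hx => ⟨⟨x, hWK hx⟩, h2 hx, rfl⟩
  have h4 : Nat.card (V.map K.subtype) = 2 ^ (n + 1) := by
    rw [Subgroup.card_map_of_injective K.subtype_injective, h1]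
  refine ⟨_, h3, Subgroup.map_subtype_le _, h4, fun a ha b hb => ?_⟩
  have h5 := (W.subgroupOf (V.map K.subtype)).card_mul_index
  rw [Nat.card_congr (Subgroup.subgroupOfEquivOfLe h3).toEquiv, hW, h4, pow_succ] at h5
  exact Subgroup.mul_mem_iff_of_index_two (Nat.eq_of_mul_eq_mul_left (by positivity) h5) (a := ⟨a, ha⟩) (b := ⟨b, hb⟩)

theorem exists_norm {K : Subgroup G} {y : G} (hy : y ∈ K) {r : ℕ} (hr : r.Prime) (ho : orderOf y = r)
    (hsq : ¬ r ^ 2 ∣ Nat.card K) : ∃ N ≤ K, (∀ g ∈ N, g⁻¹ * y * g ∈ Subgroup.zpowers y) ∧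
      ∃ i, Nat.card N * i = Nat.card K ∧ i ≡ 1 [MOD r] := by
  have := Fact.mk hr
  have h1 : Nat.card (Subgroup.zpowers (⟨y, hy⟩ : K)) = r := by
    rw [Nat.card_zpowers, ← Subgroup.orderOf_coe, ho]
  let P : Sylow r K := (IsPGroup.of_card (n := 1) (by rw [h1, pow_one])).toSylow fun h => hsq (by
    rw [← (Subgroup.zpowers (⟨y, hy⟩ : K)).card_mul_index, h1, sq]
    exact Nat.mul_dvd_mul_left _ h)
  refine ⟨(Subgroup.normalizer (P : Set K)).map K.subtype, Subgroup.map_subtype_le _, ?_, _, ?_,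
    card_sylow_modEq_one r K⟩
  · rintro _ ⟨g, hg, rfl⟩
    obtain ⟨z, hz⟩ := (Subgroup.mem_set_normalizer_iff''.1 hg ⟨y, hy⟩).1 (Subgroup.mem_zpowers _)
    exact ⟨z, by simpa using congrArg Subtype.val hz⟩
  · rw [Subgroup.card_map_of_injective K.subtype_injective, P.card_eq_index_normalizer, Subgroup.card_mul_index]

theorem exists_conj_sylow {H K Q : Subgroup G} (hK : K ≤ H) (hQ : Q ≤ H) {p n : ℕ} (hp : p.Prime)
    (hQc : Nat.card Q = p ^ n) (hKd : p ^ n ∣ Nat.card K) (hH : ¬ p ^ (n + 1) ∣ Nat.card H) :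
    ∃ g ∈ H, ∀ q ∈ Q, g⁻¹ * q * g ∈ K := by
  have := Fact.mk hp
  obtain ⟨S, hS⟩ := Sylow.exists_subgroup_card_pow_prime p hKd
  have key : ∀ T : Subgroup G, T ≤ H → Nat.card T = p ^ n → ∃ P : Sylow p H, (P : Subgroup H) = T.subgroupOf H :=
    fun T hT h => by
      have h1 := (Nat.card_congr (Subgroup.subgroupOfEquivOfLe hT).toEquiv).trans h
      refine ⟨(IsPGroup.of_card h1).toSylow fun h2 => hH ?_, rfl⟩
      rw [← (T.subgroupOf H).card_mul_index, h1, pow_succ]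
      exact Nat.mul_dvd_mul_left _ h2
  obtain ⟨P, hP⟩ := key Q hQ hQc
  obtain ⟨P', hP'⟩ := key (S.map K.subtype) ((Subgroup.map_subtype_le _).trans hK)
    (by rw [Subgroup.card_map_of_injective K.subtype_injective, hS])
  obtain ⟨g, hg⟩ := MulAction.exists_smul_eq H P' P
  refine ⟨g, g.2, fun q hq => ?_⟩
  have h1 : (⟨q, hQ hq⟩ : H) ∈ (P : Subgroup H) := hP ▸ hq
  rw [← hg, Sylow.coe_subgroup_smul, Subgroup.mem_pointwise_smul_iff_inv_smul_mem, hP'] at h1
  exact Subgroup.map_subtype_le S (by simpa [Subgroup.mem_subgroupOf] using h1)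

omit [Finite G] in
theorem fix_of_conj {Ω : Type*} [MulAction G Ω] {K : Subgroup G} {g : G} {b : Ω}
    (h : ∀ k ∈ K.map (MulAut.conj g).toMonoidHom, k • b = b) : ∀ k ∈ K, k • g⁻¹ • b = g⁻¹ • b := fun k hk => by
  have := h _ ⟨k, hk, rfl⟩
  rw [eq_inv_smul_iff, ← mul_smul, ← mul_smul]
  simpa using this

end

/-- two actions with matching orbit representatives are equivalent -/
theorem exists_equiv_of_orbits {A B X Y ι : Type*} [Group A] [Group B] [MulAction A X] [MulAction B Y] (θ : A ≃* B)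
    (x : ι → X) (y : ι → Y) (hx : ∀ p, ∃ i, ∃ g : A, p = g • x i) (hy : ∀ p, ∃ i, ∃ g : B, p = g • y i)
    (h : ∀ i j (g : A), g • x i = x j ↔ θ g • y i = y j) :
    ∃ β : X ≃ Y, (∀ (g : A) p, β (g • p) = θ g • β p) ∧ ∀ i, β (x i) = y i := by
  choose i g e using hx
  have h2 : ∀ i j (a b : A), a • x i = b • x j ↔ θ a • y i = θ b • y j := fun i j a b => by
    rw [← inv_smul_eq_iff, ← mul_smul, h, map_mul, map_inv, mul_smul, inv_smul_eq_iff]
  let f : X → Y := fun p => θ (g p) • y (i p)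
  have hf : ∀ j a, f (a • x j) = θ a • y j := fun j a => (h2 _ _ _ _).1 (e _).symm
  refine ⟨Equiv.ofBijective f ⟨fun p q hpq => ?_, fun q => ?_⟩, fun a p => ?_, fun j => ?_⟩
  · rw [e p, e q]; exact (h2 _ _ _ _).2 hpq
  · obtain ⟨j, b, rfl⟩ := hy q
    exact ⟨θ.symm b • x j, by rw [hf, θ.apply_symm_apply]⟩
  · change f _ = θ a • f p
    conv_lhs => rw [e p, ← mul_smul, hf, map_mul, mul_smul]
  · change f _ = _
    simpa using hf j 1

end Cfsg.Agent.H57Ru
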