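/-
Subgroups of index 1755 and 2304 of the point stabiliser of the Rudvalis group are stabilisers of a second point.
-/
import Cfsg.Agent.H57.RuF
import Cfsg.Agent.H57.RuGD
import Cfsg.Agent.H57.RuG0

set_option autoImplicit false
set_option maxRecDepth 100000
set_option exponentiation.threshold 5000

namespace Cfsg.Agent.H57Ru

open Cfsg.Agent.H14 Cfsg.Agent.H55 MulAction

attribute [local irreducible] tt tA tB Ty Tyi Tw Twi mD rho wR

theorem fn_val {g : PR} {f : ℕ → ℕ} (hf : AP.Fn g f) (x : Fin 4060) : ((g • x : Fin 4060) : ℕ) = f x :=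
  finAM_fn.1 hf x

theorem fn_fix {g : PR} {f : ℕ → ℕ} (hf : AP.Fn g f) {l : List ℕ} (h : agree l f (fun i => i) = true)
    (x : Fin 4060) (hx : x.1 ∈ l := by decide) : g • x = x := Fin.ext ((fn_val hf x).trans (agree_iff.1 h _ hx))

theorem tb_orD {Ls : List Lv} {x : ℕ} (h : tb (orD Ls) x = true) : ∃ L ∈ Ls, tb L.D x = true := by
  induction Ls with
  | nil => simp [orD, tb_eq] at h
  | cons L Ls ih =>
    have e : orD (L :: Ls) = L.D ||| orD Ls := rfl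
    rw [e, tb_eq, Nat.testBit_or, Bool.or_eq_true, ← tb_eq, ← tb_eq] at h
    rcases h with h | h
    · exact ⟨L, List.mem_cons_self, h⟩
    · obtain ⟨L', h1, h2⟩ := ih h
      exact ⟨L', List.mem_cons_of_mem _ h1, h2⟩

theorem orbs_spec {t : TT ℕ} (hv : AP.Valid lkR ⊤ t) {prev : List ℕ} {M : ℕ} {cs : List LvC}
    (h : orbsOK t prev M cs = true) {K : Subgroup PR}
    (hK : ∀ g f, AP.Fn g f → agree prev f (fun i => i) = true → g ∈ K) :
    (∀ L ∈ cs.map LvC.L, AP.OrbIn K L.b L.D L.s) ∧ ∀ x, tb M x = true → ∃ L ∈ cs.map LvC.L, tb L.D x = true := by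
  rw [orbsOK, Bool.and_eq_true, allL_iff, beq_iff] at h
  refine ⟨fun L hL => ?_, fun x hx => tb_orD (h.2 ▸ hx)⟩
  obtain ⟨c, hc, rfl⟩ := List.mem_map.1 hL
  exact (AM.pre_cons_of_levOK hv (fun g _ f hf _ => hK g f hf) (h.1 c hc)).2

theorem vTy : AP.Valid lkR ⊤ (.leaf Ty Tyi) := validP.leaf_of_leafOK _ cTy
theorem vTw : AP.Valid lkR ⊤ (.leaf Tw Twi) := validP.leaf_of_leafOK _ cTw
theorem validB : AP.Valid lkR ⊤ tB := by unfold tB; exact ⟨validP, ⟨vTy, vTy.swap⟩, vTw⟩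

theorem exB : AP.Ex (bCs.map LvC.L) HH :=
  (AM.pre_of_preOK' validB (fun _ _ _ hf _ h => mem_HH hf (agree_iff.1 h 0 (by simp))) cBs).ex
    (by rw [card_HH]; decide +kernel)

theorem sig_iff (x : Fin 4060) : tb gL1.D x = true ↔ ∃ g ∈ HH, g • (1 : Fin 4060) = x := by
  constructor
  · intro h
    obtain ⟨-, g, hg, e⟩ := exB.2.1.1 x h
    exact ⟨g, hg, e.trans (finAM_code _ x)⟩
  · rintro ⟨g, hg, rfl⟩
    obtain ⟨j, hj, h1, h2⟩ := exB.2.2.1 g hg
    rw [show g • (1 : Fin 4060) = ⟨j, hj⟩ from h2.trans (finAM_code _ ⟨j, hj⟩)]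
    exact h1

theorem card_P0 : Nat.card ↥(HH ⊓ stabilizer PR (16 : Fin 4060)) = 20480 :=
  (AM.Ex.card_eq' (Ls := [aC1.L, aC2.L, aC3.L]) exA.2.2.2).trans (by decide +kernel)
theorem card_D0 : Nat.card ↥(HH ⊓ stabilizer PR (16 : Fin 4060) ⊓ stabilizer PR (2644 : Fin 4060)) = 2 ^ 11 :=
  (AM.Ex.card_eq' (Ls := [aC2.L, aC3.L]) exA.2.2.2.2.2.2).trans (by decide +kernel)
theorem card_K0 : Nat.card ↥(HH ⊓ stabilizer PR (1 : Fin 4060)) = 15600 :=
  (AM.Ex.card_eq' (Ls := [bC1.L, bC2.L, bC3.L]) exB.2.2.2).trans (by decide +kernel)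
theorem card_M0 : Nat.card ↥(HH ⊓ stabilizer PR (1 : Fin 4060) ⊓ stabilizer PR (868 : Fin 4060)) = 52 :=
  (AM.Ex.card_eq' (Ls := [bC2.L, bC3.L]) exB.2.2.2.2.2.2).trans (by decide +kernel)
theorem card_W0 : Nat.card ↥(HH ⊓ stabilizer PR (1 : Fin 4060) ⊓ stabilizer PR (868 : Fin 4060) ⊓
    stabilizer PR (247 : Fin 4060)) = 4 :=
  (AM.Ex.card_eq' (Ls := [bC3.L]) exB.2.2.2.2.2.2.2.2.2).trans (by decide +kernel)

theorem fixP {K : Subgroup PR} (hK : K ≤ HH) (hc : Nat.card K = 20480) :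
    ∃ h ∈ HH, ∀ g ∈ K, g • h • (16 : Fin 4060) = h • (16 : Fin 4060) := by
  obtain ⟨Q, h1, h2, h3, -⟩ := exists_ext inf_le_left card_D0 (by rw [card_P0]; decide)
  obtain ⟨g, hg, h4⟩ := exists_conj_sylow hK (h2.trans inf_le_left) Nat.prime_two h3 (by rw [hc]; decide)
    (by rw [card_HH]; decide)
  refine ⟨g⁻¹, inv_mem hg, fix_of_conj ?_⟩
  have h5 : Nat.card (K.map (MulAut.conj g).toMonoidHom) = 20480 := by
    rw [Subgroup.card_map_of_injective (MulAut.conj g).injective, hc]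
  have h6 : Q ≤ K.map (MulAut.conj g).toMonoidHom := fun q hq => ⟨_, h4 q hq, by simp [mul_assoc]⟩
  have h7 : K.map (MulAut.conj g).toMonoidHom ≤ HH := by
    rintro _ ⟨k, hk, rfl⟩; exact mul_mem (mul_mem hg (hK hk)) (inv_mem hg)
  generalize K.map (MulAut.conj g).toMonoidHom = L at h5 h6 h7
  have h8 := card_eq_orbit_mul L (16 : Fin 4060)
  obtain ⟨m, hm⟩ := Subgroup.card_dvd_of_le (show Q ≤ L ⊓ stabilizer PR (16 : Fin 4060) from
    le_inf h6 (h2.trans inf_le_right))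
  rw [h5, hm, h3] at h8
  set O := {a | ∃ g ∈ L, g • (16 : Fin 4060) = a} with hO
  have h9 : O.ncard ∣ 5 := ⟨m, by rw [mul_left_comm] at h8; omega⟩
  obtain ⟨h10, h11⟩ := orbs_spec validA cOQ (K := L) fun g f hf h =>
    h6 (h1 ⟨⟨fn_fix hf h 0, fn_fix hf h 16⟩, fn_fix hf h 2644⟩)
  have hS : ∀ g ∈ L, ∀ x ∈ O, g • x ∈ O := by
    rintro g hg _ ⟨k, hk, rfl⟩; exact ⟨g * k, mul_mem hg hk, mul_smul _ _ _⟩
  have h12 : O ⊆ {16, 2644, 2642} := fun x hx => by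
    obtain ⟨k, hk, e⟩ := id hx
    obtain ⟨L', hL', h13⟩ := h11 x ((mD_iff x).2 ⟨k, h7 hk, e⟩)
    have h14 := (orb_le_ncard (h10 L' hL') hS ((orb_mem_iff (h10 L' hL') hS h13).1 (by rwa [finAM_code]))).trans
      (Nat.le_of_dvd (by decide) h9)
    have key : ∀ L' ∈ oQs.map LvC.L, L'.s ≤ 5 → L'.D = 2 ^ 16 ∨ L'.D = 2 ^ 2644 ∨ L'.D = 2 ^ 2642 := by decide +kernel
    rw [tb_eq] at h13
    rcases key L' hL' h14 with h | h | h <;> rw [h, Nat.testBit_two_pow, decide_eq_true_iff] at h13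
    · exact .inl (Fin.ext h13.symm)
    · exact .inr (.inl (Fin.ext h13.symm))
    · exact .inr (.inr (Fin.ext h13.symm))
  have h15 : O.ncard ≤ 3 := (Set.ncard_le_ncard h12).trans ((Set.ncard_insert_le _ _).trans
    (Nat.succ_le_succ ((Set.ncard_insert_le _ _).trans (by simp))))
  obtain ⟨a, ha⟩ := Set.ncard_eq_one.1 (((Nat.dvd_prime Nat.prime_five).1 h9).resolve_right (by omega))
  intro k hk
  exact (ha.le ⟨k, hk, rfl⟩).trans (ha.le ⟨1, one_mem _, one_smul _ _⟩).symm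

theorem cube_fix {y g : PR} (hy : AP.Fn y (lkR Ty)) (hg : g ∈ HH) (h : ∀ x : Fin 4060, y • x = x → y • g • x = g • x) :
    (∀ x ∈ ({1, 868, 3245} : Set (Fin 4060)), g • x ∈ ({1, 868, 3245} : Set (Fin 4060))) ∧
      (g • (1 : Fin 4060) = 1 → g • (868 : Fin 4060) = 868 ∧ g • (3245 : Fin 4060) = 3245) ∧
      g ^ 3 • (1 : Fin 4060) = 1 := by
  obtain ⟨r, -, hr, -⟩ := validB.wf wR
  rw [← run_eq] at hr
  have r0 : r ∈ HH := mem_HH hr cR.1
  have r1 : r • (1 : Fin 4060) = 868 := Fin.ext ((fn_val hr _).trans cR.2.1)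
  have r2 : r • (868 : Fin 4060) = 3245 := Fin.ext ((fn_val hr _).trans cR.2.2.1)
  have r3 : r • (3245 : Fin 4060) = 1 := Fin.ext ((fn_val hr _).trans cR.2.2.2.1)
  have key : ∀ k ∈ HH, k • (1 : Fin 4060) = 1 → k • (868 : Fin 4060) ≠ 3245 := fun k h1 h2 h3 => by
    obtain ⟨j, hj, h4, h5⟩ := exB.2.2.2.2.2.1 k ⟨h1, h2⟩
    have h6 : j = 3245 := AP.inj _ hj _ (by decide) (h5.symm.trans h3)
    rw [h6] at h4
    exact Bool.false_ne_true (cR.2.2.2.2.symm.trans h4)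
  have hf : ∀ x : Fin 4060, x ≠ 0 → y • x = x → g • x = 1 ∨ g • x = 868 ∨ g • x = 3245 := fun x h0 hx => by
    have h1 := all2_iff.1 cFy _ (g • x : Fin 4060).2
    simp only [force_eq, bimp_iff, beq_iff, anyL_iff, List.mem_cons, List.not_mem_nil, or_false, exists_eq_or_imp,
      exists_eq_left] at h1
    rcases h1 (by rw [← fn_val hy, h x hx]) with h2 | h2 | h2 | h2
    · exact absurd (MulAction.injective g ((Fin.ext h2).trans (show (0 : Fin 4060) = g • 0 from hg.symm))) h0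
    · exact .inl (Fin.ext h2)
    · exact .inr (.inl (Fin.ext h2))
    · exact .inr (.inr (Fin.ext h2))
  have a1 := hf 1 (by decide) (fn_fix hy cyw.1 _)
  have a2 := hf 868 (by decide) (fn_fix hy cyw.1 _)
  have a3 := hf 3245 (by decide) (fn_fix hy cyw.1 _)
  have n12 : g • (1 : Fin 4060) ≠ g • 868 := (MulAction.injective g).ne (by decide)
  have n13 : g • (1 : Fin 4060) ≠ g • 3245 := (MulAction.injective g).ne (by decide)
  have n23 : g • (868 : Fin 4060) ≠ g • 3245 := (MulAction.injective g).ne (by decide)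
  have k1 := key g hg
  have k2 := key (r⁻¹ * g) (mul_mem (inv_mem r0) hg)
  have k3 := key (r * g) (mul_mem r0 hg)
  rw [mul_smul, mul_smul, Ne, inv_smul_eq_iff, inv_smul_eq_iff, r1, r3] at k2
  rw [mul_smul, mul_smul] at k3
  refine ⟨?_, fun h1 => ?_, ?_⟩
  · rintro x (rfl | rfl | rfl)
    exacts [a1, a2, a3]
  · have h2 : g • (868 : Fin 4060) = 868 := (a2.resolve_left fun h => n12 (h1.trans h.symm)).resolve_right (k1 h1)
    exact ⟨h2, (a3.resolve_left fun h => n13 (h1.trans h.symm)).resolve_left fun h => n23 (h2.trans h.symm)⟩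
  · rw [pow_three, mul_smul, mul_smul]
    rcases a1 with h1 | h1 | h1
    · rw [h1, h1, h1]
    · have h2 : g • (868 : Fin 4060) = 3245 := (a2.resolve_left (k2 h1)).resolve_left fun h => n12 (h1.trans h.symm)
      rw [h1, h2]
      exact a3.resolve_right (not_or.2 ⟨fun h => n13 (h1.trans h.symm), fun h => n23 (h2.trans h.symm)⟩)
    · have h2 : g • (868 : Fin 4060) = 1 := a2.resolve_right (not_or.2 ⟨fun h => k3 (by rw [h1, r3]) (by rw [h, r2]),
        fun h => n12 (h1.trans h.symm)⟩)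
      rw [h1, (a3.resolve_left fun h => n23 (h2.trans h.symm)).resolve_right fun h => n13 (h1.trans h.symm), h2]

theorem fix_zpowers {G Ω : Type*} [Group G] [MulAction G Ω] {y g : G} (h : g⁻¹ * y * g ∈ Subgroup.zpowers y) (x : Ω)
    (hx : y • x = x) : y • g • x = g • x := by
  have : g⁻¹ * y * g ∈ stabilizer G x := Subgroup.zpowers_le_of_mem hx h
  rwa [mem_stabilizer_iff, mul_smul, mul_smul, inv_smul_eq_iff] at this

theorem M_le {K : Subgroup PR} (hK : K ≤ HH) (hc : Nat.card K = 15600) {y : PR} (hy : AP.Fn y (lkR Ty))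
    (ho : orderOf y = 13) (hyK : y ∈ K) : ∀ g ∈ HH ⊓ stabilizer PR (1 : Fin 4060) ⊓ stabilizer PR (868 : Fin 4060),
      g ∈ K ∧ g • (3245 : Fin 4060) = 3245 := by
  obtain ⟨N, hN, h1, i, h2, h3⟩ := exists_norm hyK (r := 13) (by decide) ho (by rw [hc]; decide)
  have h4 := fun g hg => cube_fix hy (hK (hN hg)) (fix_zpowers (h1 g hg))
  have h5 : N ⊓ stabilizer PR (1 : Fin 4060) ≤ HH ⊓ stabilizer PR (1 : Fin 4060) ⊓ stabilizer PR (868 : Fin 4060) :=
    fun g hg => ⟨⟨hK (hN hg.1), hg.2⟩, ((h4 g hg.1).2.1 hg.2).1⟩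
  have h6 : Nat.card N ≤ 3 * 52 := by
    rw [card_eq_orbit_mul N (1 : Fin 4060), ← card_M0]
    refine Nat.mul_le_mul ((Set.ncard_le_ncard (t := {1, 868, 3245}) ?_).trans ((Set.ncard_insert_le _ _).trans
      (Nat.succ_le_succ ((Set.ncard_insert_le _ _).trans (by simp))))) (Subgroup.card_le_of_le h5)
    rintro _ ⟨g, hg, rfl⟩
    exact (h4 g hg).1 1 (.inl rfl)
  have h7 : Nat.card N = 52 := by
    have key : ∀ n ≤ 3 * 52, n ∣ 15600 → 15600 / n % 13 = 1 → n = 52 := by decide +kernel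
    rw [hc] at h2
    refine key _ h6 ⟨i, h2.symm⟩ ?_
    rw [← h2, Nat.mul_div_cancel_left _ Nat.card_pos]
    exact h3
  have h8 : N ≤ stabilizer PR (1 : Fin 4060) := fun g hg => by
    have h9 : g ^ 52 = 1 := by
      rw [← h7]; exact congrArg Subtype.val (pow_card_eq_one' (x := (⟨g, hg⟩ : N)))
    have h10 : (g ^ 3) ^ 17 ∈ stabilizer PR (1 : Fin 4060) := pow_mem (h4 g hg).2.2 17
    rwa [← pow_mul, ← inv_mem_iff, ← eq_inv_of_mul_eq_one_left ((pow_succ' g 51).symm.trans h9)] at h10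
  have h11 := Subgroup.eq_of_le_of_card_ge ((le_inf le_rfl h8).trans h5) (by rw [card_M0, h7])
  rw [← h11]
  exact fun g hg => ⟨hN hg, ((h4 g hg).2.1 (h8 hg)).2⟩

theorem fixK0 {K : Subgroup PR} (hK : K ≤ HH) (hc : Nat.card K = 15600) {y : PR} (hy : AP.Fn y (lkR Ty))
    (ho : orderOf y = 13) (hyK : y ∈ K) : ∃ c ∈ [1, 868, 3245], ∀ g ∈ K, g • AP.code c = AP.code c := by
  have hM := M_le hK hc hy ho hyK
  obtain ⟨w, -, hw, -⟩ := vTw
  have w1 : w ∈ HH ⊓ stabilizer PR (1 : Fin 4060) ⊓ stabilizer PR (868 : Fin 4060) ⊓ stabilizer PR (247 : Fin 4060) :=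
    ⟨⟨⟨fn_fix hw cyw.2.1 _, fn_fix hw cyw.2.1 _⟩, fn_fix hw cyw.2.1 _⟩, fn_fix hw cyw.2.1 _⟩
  have w2 : orderOf w = 2 ^ (1 + 1) := orderOf_eq_prime_pow (fun h => cyw.2.2.2.2.2 (by
    have := hw.iter 2
    rw [show w ^ 2 = 1 from h] at this
    exact this.eq AM.Fn.one (by decide))) (baseP.eq (hw.iter 4) AM.Fn.one cyw.2.2.2.1)
  have w3 := Subgroup.eq_of_le_of_card_ge (Subgroup.zpowers_le_of_mem w1) (by rw [card_W0, Nat.card_zpowers, w2]; rfl)
  obtain ⟨V, h1, h2, h3, h4⟩ := exists_ext (W := Subgroup.zpowers w) (K := K) (n := 2)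
    (Subgroup.zpowers_le_of_mem (hM w w1.1).1) (by rw [Nat.card_zpowers, w2]) (by rw [hc]; decide)
  obtain ⟨s, hs, hs'⟩ := SetLike.exists_of_lt (lt_of_le_of_ne h1 fun h => by
    rw [← h, Nat.card_zpowers, w2] at h3; omega)
  have hwV := h1 (Subgroup.mem_zpowers w)
  obtain ⟨U, f, k, a, b, hf, h5, h6⟩ := t1_free validB (c := s) (cs := tlR) (K := HH) (leafP := leafR) (rest := [bC3.L]) (prev := [0]) (by
      have e : AP.Fn w (wF lkR tB 7) := by
        obtain ⟨w', -, h, -⟩ := validB.wf 7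
        rw [← run_eq] at h ⊢
        rwa [baseP.eq hw h (by decide +kernel)]
      have : ∀ L ∈ tlR, L.free = true ∧ ∀ h ∈ L.hs, h.1 = 7 := by decide +kernel
      refine fun L hL => ⟨(this L hL).1, fun h hh => ⟨w, (this L hL).2 h hh ▸ e, fix_zpowers ?_⟩⟩
      rw [h4 _ (mul_mem (inv_mem hs) hwV) _ hs, h4 _ (inv_mem hs) _ hwV, inv_mem_iff]
      simp [hs']) (show AP.Ex (tlR.map TL.L ++ [bC3.L]) HH from exB) (by decide) (fun g => by simp [mem_stabilizer_iff]; rfl) AM.Fn.one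
      (by rw [inv_one]; exact AM.Fn.one) (by simpa using hK (h2 hs)) cT1
  have h7 : U⁻¹ * s ∈ Subgroup.zpowers w := w3 ▸ ⟨⟨⟨h6 0 (by decide), h6 1 (by decide)⟩, h6 868 (by decide)⟩,
    h6 247 (by decide)⟩
  have hU : U ∈ V := by simpa using mul_mem hs (inv_mem (h1 h7))
  have hU' : U ∉ Subgroup.zpowers w := fun h => hs' (by simpa using mul_mem h h7)
  have hfs : ∀ L : Subgroup PR, HH ⊓ stabilizer PR (1 : Fin 4060) ⊓ stabilizer PR (868 : Fin 4060) ≤ L → U ∈ L →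
      ∀ f' ∈ [lkR Ty, lkR Tw, f], ∃ g ∈ L, AP.Fn g f' := fun L h h' => by
    simp only [List.forall_mem_cons]
    exact ⟨⟨y, h ⟨⟨fn_fix hy cyw.1 _, fn_fix hy cyw.1 _⟩, fn_fix hy cyw.1 _⟩, hy⟩, ⟨w, h w1.1, hw⟩, ⟨U, h', hf⟩, by simp⟩
  match k with
  | 0 => exact absurd (w3 ▸ ⟨⟨⟨hK (h2 hU), fn_fix hf h5 _⟩, fn_fix hf h5 _⟩, fn_fix hf h5 _⟩) hU'
  | 1 =>
    have h8 : (!agree [1, 868, 247] (fun i => f (f i)) fun i => i) = true := h5
    have h9 := w3.le ((h4 U hU U hU).2 Iff.rfl)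
    rw [Bool.not_eq_true', ← Bool.not_eq_true, agree_iff] at h8
    refine absurd ?_ h8
    simp only [List.forall_mem_cons]
    exact ⟨(fn_val (hf.mul hf) 1).symm.trans (congrArg Fin.val h9.1.1.2),
      (fn_val (hf.mul hf) 868).symm.trans (congrArg Fin.val h9.1.2),
      (fn_val (hf.mul hf) 247).symm.trans (congrArg Fin.val h9.2), by simp⟩
  | 2 =>
    have h8 : bfs1 [lkR Ty, lkR Tw, f] (nat_lit 65536) (fun _ n => Nat.ble 301 n) (nat_lit 2000) a
      (Nat.shiftLeft 1 1) 1 = true := h5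
    obtain ⟨m, n, h8, h9⟩ := AM.orbIn_of_bfs1 (hfs K (fun g hg => (hM g hg).1) (h2 hU))
      (AM.orbIn_init K (b := 1) (by decide)) h8
    have := orb_mul_le h8 (fun g hg => (hM g hg).1) fun g hg => hg.1.2
    rw [card_M0, hc] at this
    have := ble_iff.1 h9
    omega
  | k + 3 =>
    have h8 : (anyL [1, 868, 3245] (Nat.beq b) && Nat.beq (f b) b && anyL [1, 868] (Nat.beq (Nat.succ k)) &&
        bfs1 [lkR Ty, lkR Tw, f] (nat_lit 65536) (fun _ n => Nat.ble 300 n) (nat_lit 2000) a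
          (Nat.shiftLeft 1 (Nat.succ k)) 1) = true := h5
    simp only [Bool.and_eq_true, anyL_iff, beq_iff, exists_eq_right'] at h8
    obtain ⟨⟨⟨b1, b2⟩, b3⟩, b4⟩ := h8
    have b5 : ∀ c ∈ [1, 868, 3245], c < 4060 ∧ ∀ g ∈ HH ⊓ stabilizer PR (1 : Fin 4060) ⊓ stabilizer PR (868 : Fin 4060),
        g • AP.code c = AP.code c := by
      simp only [List.forall_mem_cons]
      exact ⟨⟨by decide, fun g hg => hg.1.2⟩, ⟨by decide, fun g hg => hg.2⟩, ⟨by decide, fun g hg => (hM g hg).2⟩, by simp⟩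
    have b6 : k.succ ∈ [1, 868, 3245] := by simp only [List.mem_cons] at b3 ⊢; tauto
    have b7 : HH ⊓ stabilizer PR (1 : Fin 4060) ⊓ stabilizer PR (868 : Fin 4060) ≤ K ⊓ stabilizer PR (AP.code b) :=
      fun g hg => ⟨(hM g hg).1, (b5 b b1).2 g hg⟩
    obtain ⟨m, n, h8, h9⟩ := AM.orbIn_of_bfs1 (hfs _ b7 ⟨h2 hU, (hf.smul_eq_iff (b5 b b1).1 (b5 b b1).1).2 b2⟩)
      (AM.orbIn_init _ (b5 _ b6).1) b4
    have h10 := orb_mul_le h8 b7 (b5 _ b6).2
    have h11 := ble_iff.1 h9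
    rw [card_M0] at h10
    have h12 := Subgroup.eq_of_le_of_card_ge (inf_le_left : K ⊓ stabilizer PR (AP.code b) ≤ K) (by omega)
    exact ⟨b, b1, fun g hg => (h12.ge hg).2⟩

theorem fixK {K : Subgroup PR} (hK : K ≤ HH) (hc : Nat.card K = 15600) :
    ∃ h ∈ HH, ∀ g ∈ K, g • h • (1 : Fin 4060) = h • (1 : Fin 4060) := by
  obtain ⟨y, -, hy, -⟩ := vTy
  have ho : orderOf y = 13 := by
    have := Fact.mk (show Nat.Prime 13 by decide)
    refine orderOf_eq_prime (baseP.eq (hy.iter 13) AM.Fn.one cyw.2.2.1) fun h => cyw.2.2.2.2.1 ?_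
    rw [h] at hy
    exact hy.eq AM.Fn.one (by decide)
  obtain ⟨g, hg, h4⟩ := exists_conj_sylow hK (Subgroup.zpowers_le_of_mem (fn_fix hy cyw.1 0)) (p := 13) (n := 1)
    (by decide) (by rw [Nat.card_zpowers, ho]; rfl) (by rw [hc]; decide) (by rw [card_HH]; decide)
  obtain ⟨c, h1, h2⟩ := fixK0 (K := K.map (MulAut.conj g).toMonoidHom) (by
      rintro _ ⟨k, hk, rfl⟩; exact mul_mem (mul_mem hg (hK hk)) (inv_mem hg))
    (by rw [Subgroup.card_map_of_injective (MulAut.conj g).injective, hc]) hy ho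
    ⟨_, h4 y (Subgroup.mem_zpowers y), by simp [mul_assoc]⟩
  obtain ⟨k, hk, e⟩ := (sig_iff (AP.code c)).1 ((show ∀ c ∈ [1, 868, 3245], tb gL1.D (AP.code c : Fin 4060) = true by
    decide +kernel) c h1)
  exact ⟨g⁻¹ * k, mul_mem (inv_mem hg) hk, by rw [mul_smul, e]; exact fix_of_conj h2⟩

end Cfsg.Agent.H57Ru
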