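/-
Involutions of the Rudvalis group; the involution centralising an element of order ten.
-/
import Cfsg.Agent.H57.RuG1
import Cfsg.Agent.H57.RuSD

set_option autoImplicit false
set_option maxRecDepth 100000

namespace Cfsg.Agent.H57Ru

open Cfsg.Agent.H14 Cfsg.Agent.H55 MulAction Subgroup
open scoped Pointwise

attribute [local irreducible] tt tA tS Ta Tb Tf Tfi mD rho tws rws chkI wf wF run lfI cosOK

theorem conj_into {G : Type*} [Group G] [Finite G] {K : Subgroup G} {p : ℕ} (hp : p.Prime)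
    (hK : ¬ p ∣ K.index) {y : G} (hy : y ^ p = 1) : ∃ g, g⁻¹ * y * g ∈ K := by
  have := Fact.mk hp
  have h : IsPGroup p (zpowers y) := fun g => ⟨1, by
    obtain ⟨_, i, rfl⟩ := g
    refine Subtype.ext ?_
    change (y ^ i) ^ p ^ 1 = 1
    rw [pow_one, ← zpow_natCast, ← zpow_mul, mul_comm, zpow_mul, zpow_natCast, hy, one_zpow]⟩
  obtain ⟨q, hq⟩ := h.nonempty_fixed_point_of_prime_not_dvd_card (G ⧸ K) hK
  induction q using QuotientGroup.induction_on with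
  | H g => exact ⟨g, by simpa [mul_assoc] using QuotientGroup.eq.1 (hq ⟨y, mem_zpowers y⟩).symm⟩

theorem vTa : AP.Valid lkR ⊤ (.leaf Ta Ta) := validP.leaf_of_leafOK _ cTa
theorem vTb : AP.Valid lkR ⊤ (.leaf Tb Tb) := validP.leaf_of_leafOK _ cTb
theorem vTf : AP.Valid lkR ⊤ (.leaf Tf Tfi) := validP.leaf_of_leafOK _ cTf

theorem validS : AP.Valid lkR ⊤ tS := by
  unfold tS
  exact ⟨validP, ⟨⟨validP.leaf_of_leafOK _ cVu1, validP.leaf_of_leafOK _ cVu2, validP.leaf_of_leafOK _ cVu3⟩,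
    validP.leaf_of_leafOK _ cVu4, validP.leaf_of_leafOK _ cVu5, validP.leaf_of_leafOK _ cVu6⟩,
    ⟨validP.leaf_of_leafOK _ cVu7, validP.leaf_of_leafOK _ cVu8, validP.leaf_of_leafOK _ cVu9⟩,
    ⟨vTa, vTb⟩, vTf, vTf.swap⟩

/-- a 2-central involution -/
noncomputable def ea : PR := Exists.choose vTa
/-- an involution of the other class -/
noncomputable def eb : PR := Exists.choose vTb
/-- an element of order five -/
noncomputable def ef : PR := Exists.choose vTf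

theorem fn_ea : AP.Fn ea (lkR Ta) := (Exists.choose_spec vTa).2.1
theorem fn_eb : AP.Fn eb (lkR Tb) := (Exists.choose_spec vTb).2.1
theorem fn_ef : AP.Fn ef (lkR Tf) := (Exists.choose_spec vTf).2.1

theorem cmt_sound {g h : PR} {f f' : ℕ → ℕ} (hg : AP.Fn g f) (hh : AP.Fn h f') (e : cmt f f' = true) :
    g * h = h * g := baseP.eq (hg.mul hh) (hh.mul hg) e

theorem agree_of_eq {g h : PR} {f f' : ℕ → ℕ} (hg : AP.Fn g f) (hh : AP.Fn h f') (e : g = h) {l : List ℕ}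
    (hl : ∀ x ∈ l, x < 4060 := by decide) : agree l f f' = true :=
  agree_iff.2 fun b hb => hg.eq (e ▸ hh) (hl b hb)

theorem chkI_sound {y : PR} {x : ℕ → ℕ} (hy : AP.Fn y x) {c : ℕ} (h : chkI x c = true) :
    y = 1 ∨ IsConj ea y ∨ IsConj eb y := by
  rw [chkI, cj_eq] at h
  have key : ∀ g, AP.Fn g (nthF [lkR Ta, lkR Tb] (Nat.land c 3)) → IsConj g y := fun g hg => by
    obtain ⟨s, -, hs⟩ := validP.cj hg (Nat.shiftRight c 2)
    exact isConj_iff.2 ⟨s, (baseP.eq hy hs h).symm⟩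
  rcases nthF_cases [lkR Ta, lkR Tb] (Nat.land c 3) with e | e
  · rcases List.mem_pair.1 e with e | e
    exacts [.inr (.inl (key _ (by rw [e]; exact fn_ea))), .inr (.inr (key _ (by rw [e]; exact fn_eb)))]
  · exact .inl (isConj_one_right.1 (key _ (by rw [e]; exact AM.Fn.one)))

theorem lfI_spec {x : ℕ → ℕ} {k : List ℕ → Bool} {cs : List ℕ} (h : lfI x k cs = true) :
    (agree [1, 3, 2] (fun i => x (x i)) (fun i => i) = true → ∃ c, chkI x c = true) ∧ ∃ cs', k cs' = true := by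
  unfold lfI at h
  generalize agree [1, 3, 2] (fun i => x (x i)) (fun i => i) = b at h
  cases b
  · exact ⟨nofun, _, h⟩
  · cases cs with
    | nil => exact absurd h Bool.false_ne_true
    | cons c cs => exact ⟨fun _ => ⟨c, (Bool.and_eq_true _ _ ▸ h).1⟩, cs, (Bool.and_eq_true _ _ ▸ h).2⟩

theorem goI_spec {u : ℕ → ℕ} {rs : List (ℕ → ℕ)} {ws : List ℕ} : ∀ {cs}, goI u rs ws cs = true →
    ∀ w ∈ ws, ∀ r ∈ rs, agree [1, 3, 2] (fun i => u (wF lkR tA w (r (u (wF lkR tA w (r i)))))) (fun i => i) = true →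
      ∃ c, chkI (fun i => u (wF lkR tA w (r i))) c = true := by
  have key : ∀ (f : ℕ → ℕ) (k : List ℕ → Bool) (rs : List (ℕ → ℕ)) cs,
      (List.rec k (fun r _ ih2 => lfI (fun i => u (f (r i))) ih2) rs : List ℕ → Bool) cs = true →
      (∀ r ∈ rs, agree [1, 3, 2] (fun i => u (f (r (u (f (r i)))))) (fun i => i) = true →
        ∃ c, chkI (fun i => u (f (r i))) c = true) ∧ ∃ cs', k cs' = true := fun f k rs => by
    induction rs with
    | nil => exact fun cs h => ⟨by simp, cs, h⟩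
    | cons r rs ih =>
      intro cs h
      obtain ⟨h1, cs', h2⟩ := lfI_spec h
      exact ⟨List.forall_mem_cons.2 ⟨h1, (ih cs' h2).1⟩, (ih cs' h2).2⟩
  induction ws with
  | nil => simp
  | cons w ws ih =>
    intro cs h
    have e : goI u rs (w :: ws) cs = wf lkR tA w fun f _ => (List.rec (goI u rs ws)
      (fun r _ ih2 => lfI (fun i => u (f (r i))) ih2) rs : List ℕ → Bool) cs := rfl
    have h' := h
    rw [e, wf_eq] at h'
    obtain ⟨h1, cs', h2⟩ := key _ _ _ _ h'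
    exact List.forall_mem_cons.2 ⟨h1, ih h2⟩

theorem cov_spec {ws prev : List ℕ} {L : Lv} (h : covOK ws prev L = true) {j : ℕ} (hj : tb L.D j = true) :
    ∃ w ∈ ws, ∃ t : PR, AP.Fn t (wF lkR tA w) ∧ agree prev (wF lkR tA w) (fun i => i) = true ∧
      wF lkR tA w L.b = j := by
  rw [covOK, Bool.and_eq_true, allL_iff, beq_iff] at h
  obtain ⟨w, hw, e⟩ : ∃ w ∈ ws, run lkR tA w L.b = j := by
    rw [← h.2] at hj
    clear h
    induction ws with
    | nil => simp [imM, tb_eq] at hj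
    | cons w ws ih =>
      rcases (AM.tb_lor _ _ _).1 hj with h | h
      · obtain ⟨v, h1, h2⟩ := ih h
        exact ⟨v, List.mem_cons_of_mem _ h1, h2⟩
      · exact ⟨w, List.mem_cons_self, h.symm⟩
  obtain ⟨t, -, ht, -⟩ := validA.wf w
  exact ⟨w, hw, t, ht, run_eq lkR tA w ▸ h.1 w hw, run_eq lkR tA w ▸ e⟩

theorem fac_D0 {d : PR} (hd : d ∈ HH ⊓ stabilizer PR (16 : Fin 4060) ⊓ stabilizer PR (2644 : Fin 4060)) :
    d • (2642 : Fin 4060) = 2642 ∧ ∃ w ∈ tws, ∃ r ∈ rws, AP.Fn d fun i => wF lkR tA w (wF lkR tA r i) := by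
  have E := exA.2.2.2.2.2.2
  obtain ⟨j, hj, h1, h2⟩ := E.2.2.1 d hd
  obtain ⟨w, hw, t, ht, a1, rfl⟩ := cov_spec cCov.1 h1
  have m1 : t ∈ HH ⊓ stabilizer PR (16 : Fin 4060) ⊓ stabilizer PR (2644 : Fin 4060) :=
    ⟨⟨fn_fix ht a1 0, fn_fix ht a1 16⟩, fn_fix ht a1 2644⟩
  have m2 := mem_inf.2 ⟨mul_mem (inv_mem m1) hd, mem_stabilizer_iff.2 (show (t⁻¹ * d) • AP.code aC2.L.b = _ by
    rw [mul_smul, inv_smul_eq_iff, h2, ht.smul E.1])⟩
  obtain ⟨j, hj, h3, h4⟩ := E.2.2.2.2.2.1 _ m2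
  obtain ⟨v, hv, r, hr, a2, rfl⟩ := cov_spec cCov.2 h3
  have m3 : r ∈ HH ⊓ stabilizer PR (16 : Fin 4060) ⊓ stabilizer PR (2644 : Fin 4060) ⊓
      stabilizer PR (4019 : Fin 4060) :=
    ⟨⟨⟨fn_fix hr a2 0, fn_fix hr a2 16⟩, fn_fix hr a2 2644⟩, fn_fix hr a2 4019⟩
  have m4 := mem_bot.1 (E.2.2.2.2.2.2.le (mem_inf.2 ⟨mul_mem (inv_mem m3) m2,
    mem_stabilizer_iff.2 (show (r⁻¹ * (t⁻¹ * d)) • AP.code aC3.L.b = _ by
      rw [mul_smul, inv_smul_eq_iff, h4, hr.smul E.2.2.2.1])⟩))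
  obtain rfl : d = t * r := by rw [inv_mul_eq_one] at m4; rw [m4, mul_inv_cancel_left]
  exact ⟨by rw [mul_smul, fn_fix hr a2 2642, fn_fix ht a1 2642], w, hw, v, hv, ht.mul hr⟩

/-- the stabiliser of four points -/
noncomputable def T4S : Subgroup PR := stabilizer PR ({0, 16, 2644, 2642} : Finset (Fin 4060))

theorem mem_T4S {g : PR} : g ∈ T4S ↔ ∀ x : Fin 4060, x.1 ∈ [0, 16, 2644, 2642] →
    (g • x).1 ∈ [0, 16, 2644, 2642] := by
  simp only [T4S, mem_stabilizer_finset', Finset.mem_insert, Finset.mem_singleton, Fin.ext_iff,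
    List.mem_cons, List.not_mem_nil, or_false]
  rfl

theorem odd_T4S : ¬ 2 ∣ T4S.index := by
  have hw : ∀ w ∈ uws, ∃ g ∈ T4S, AP.Fn g (run lkR tS w) := fun w hw => by
    obtain ⟨g, -, hg, -⟩ := validS.wf w
    rw [← run_eq] at hg
    exact ⟨g, mem_T4S.2 fun x hx => fn_val hg x ▸ cU.1 w hw x hx, hg⟩
  have h1 := card_eq_orbit_mul T4S (0 : Fin 4060)
  rw [show {x | ∃ g ∈ T4S, g • (0 : Fin 4060) = x} = ({0, 16, 2644, 2642} : Finset (Fin 4060)) from
    Set.Subset.antisymm (by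
      rintro _ ⟨g, hg, rfl⟩
      exact mem_stabilizer_finset'.1 hg (Finset.mem_insert_self _ _)) fun x hx => by
      obtain ⟨w, h1, h2⟩ := cU.2.1 x (by
        simp only [Finset.coe_insert, Finset.coe_singleton, Set.mem_insert_iff, Set.mem_singleton_iff] at hx
        rcases hx with rfl | rfl | rfl | rfl <;> decide)
      obtain ⟨g, h3, h4⟩ := hw w h1
      exact ⟨g, h3, Fin.ext ((fn_val h4 0).trans h2)⟩, Set.ncard_coe_finset,
    show ({0, 16, 2644, 2642} : Finset (Fin 4060)).card = 4 by decide +kernel] at h1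
  have h2 := card_eq_orbit_mul (T4S ⊓ stabilizer PR (0 : Fin 4060) ⊓ stabilizer PR (16 : Fin 4060))
    (2644 : Fin 4060)
  rw [show {x | ∃ g ∈ T4S ⊓ stabilizer PR (0 : Fin 4060) ⊓ stabilizer PR (16 : Fin 4060),
      g • (2644 : Fin 4060) = x} = {2644, 2642} from Set.Subset.antisymm (by
      rintro _ ⟨g, ⟨⟨a, b⟩, c⟩, rfl⟩
      have := mem_stabilizer_finset'.1 a (show (2644 : Fin 4060) ∈ _ by decide +kernel)
      simp only [Finset.mem_insert, Finset.mem_singleton] at this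
      rcases this with e | e | e
      · exact absurd (MulAction.injective g (e.trans b.symm)) (by decide)
      · exact absurd (MulAction.injective g (e.trans c.symm)) (by decide)
      · exact e) (by
      obtain ⟨w, h1, h2, h3, h4⟩ := cU.2.2
      obtain ⟨g, h5, h6⟩ := hw w h1
      rintro _ (rfl | rfl)
      exacts [⟨1, one_mem _, one_smul _ _⟩, ⟨g, ⟨⟨h5, Fin.ext ((fn_val h6 0).trans h2)⟩,
        Fin.ext ((fn_val h6 16).trans h3)⟩, Fin.ext ((fn_val h6 2644).trans h4)⟩]),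
    Set.ncard_pair (by decide)] at h2
  obtain ⟨m, hm⟩ := card_dvd_of_le (show HH ⊓ stabilizer PR (16 : Fin 4060) ⊓ stabilizer PR (2644 : Fin 4060) ≤
    T4S ⊓ stabilizer PR (0 : Fin 4060) ⊓ stabilizer PR (16 : Fin 4060) ⊓ stabilizer PR (2644 : Fin 4060) from
      fun d hd => ⟨⟨⟨mem_stabilizer_finset'.2 (by
        simp only [Finset.mem_insert, Finset.mem_singleton]
        rintro _ (rfl | rfl | rfl | rfl)
        exacts [.inl hd.1.1, .inr (.inl hd.1.2), .inr (.inr (.inl hd.2)), .inr (.inr (.inr (fac_D0 hd).1))]),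
        hd.1.1⟩, hd.1.2⟩, hd.2⟩)
  obtain ⟨n, hn⟩ := card_dvd_of_le (inf_le_left (a := T4S ⊓ stabilizer PR (0 : Fin 4060))
    (b := stabilizer PR (16 : Fin 4060)))
  have h3 := T4S.index_mul_card
  rw [h1, hn, h2, hm, card_D0, card_PR] at h3
  rintro ⟨k, hk⟩
  rw [hk, show 2 * k * (4 * (2 * (2 ^ 11 * m) * n)) = 32768 * (k * m * n) by ring] at h3
  omega

theorem inv_classes {y : PR} (hy : y * y = 1) : y = 1 ∨ IsConj ea y ∨ IsConj eb y := by
  obtain ⟨g, hg⟩ := conj_into Nat.prime_two odd_T4S ((sq y).trans hy)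
  have c : IsConj (g⁻¹ * y * g) y := isConj_iff.2 ⟨g, by group⟩
  have h2 : g⁻¹ * y * g * (g⁻¹ * y * g) = 1 := by
    rw [show g⁻¹ * y * g * (g⁻¹ * y * g) = g⁻¹ * (y * y) * g by group, hy]; group
  generalize g⁻¹ * y * g = x at hg c h2
  suffices x = 1 ∨ IsConj ea x ∨ IsConj eb x from
    this.imp (fun e => isConj_one_right.1 (by rwa [e] at c)) (Or.imp (·.trans c) (·.trans c))
  have m := mem_T4S.1 hg
  have e : ∀ z : Fin 4060, z.1 ∈ [0, 16, 2644, 2642] → (if z.1 = 0 then (x • (0 : Fin 4060)).1 else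
      if z.1 = 16 then (x • (16 : Fin 4060)).1 else if z.1 = 2644 then (x • (2644 : Fin 4060)).1 else
      (x • (2642 : Fin 4060)).1) = (x • z).1 := fun z hz => by
    simp only [List.mem_cons, List.not_mem_nil, or_false] at hz
    rcases z with ⟨z, _⟩
    rcases hz with rfl | rfl | rfl | rfl <;> rfl
  obtain ⟨w, hw, a1, a2, a3⟩ := cPi _ (m 0 (by decide)) _ (m 16 (by decide)) _ (m 2644 (by decide))
    _ (m 2642 (by decide)) fun z hz => by
      have hz' : z < 4060 := (by decide : ∀ z ∈ [0, 16, 2644, 2642], z < 4060) z hz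
      have e1 := e ⟨z, hz'⟩ hz
      have e2 := e _ (m ⟨z, hz'⟩ hz)
      rw [← mul_smul, h2, one_smul] at e2
      exact (congrArg (fun z => if z = 0 then (x • (0 : Fin 4060)).1 else if z = 16 then (x • (16 : Fin 4060)).1
        else if z = 2644 then (x • (2644 : Fin 4060)).1 else (x • (2642 : Fin 4060)).1) e1).trans e2
  obtain ⟨u, -, hu, -⟩ := validS.wf w
  rw [run_eq] at a1 a2 a3
  have f : ∀ z : Fin 4060, wF lkR tS w z = (x • z).1 → (u⁻¹ * x) • z = z := fun z h => by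
    rw [mul_smul, inv_smul_eq_iff]; exact Fin.ext (h.symm.trans (fn_val hu z).symm)
  obtain ⟨-, t, ht, r, hr, h⟩ := fac_D0 (d := u⁻¹ * x) ⟨⟨f 0 a1, f 16 a2⟩, f 2644 a3⟩
  have hx := hu.mul h
  rw [mul_inv_cancel_left] at hx
  obtain ⟨cs, hc⟩ : ∃ cs, cosOK w cs = true := by
    simp only [uws, List.mem_cons, List.not_mem_nil, or_false] at hw
    rcases hw with rfl | rfl | rfl | rfl | rfl | rfl | rfl | rfl | rfl | rfl
    exacts [⟨_, cI0⟩, ⟨_, cI1⟩, ⟨_, cI2⟩, ⟨_, cI3⟩, ⟨_, cI4⟩, ⟨_, cI5⟩, ⟨_, cI6⟩, ⟨_, cI7⟩, ⟨_, cI8⟩, ⟨_, cI9⟩]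
  rw [cosOK, wf_eq, mkL_eq] at hc
  obtain ⟨c, h3⟩ := goI_spec hc t ht _ (List.mem_map_of_mem hr) (agree_of_eq (hx.mul hx) AM.Fn.one h2)
  exact chkI_sound hx h3

theorem ea_ef : ea * ef = ef * ea := cmt_sound fn_ea fn_ef cAF.1
theorem ef_five : ef ^ 5 = 1 := baseP.eq (fn_ef.iter 5) AM.Fn.one cAF.2.1
theorem order_ef : orderOf ef = 5 :=
  have := Fact.mk Nat.prime_five
  orderOf_eq_prime ef_five fun e => cAF.2.2.1 (fn_ef.eq (e ▸ AM.Fn.one) (by decide))

theorem exP : AP.Pre (pCs.map LvC.L) (HH ⊓ stabilizer PR (16 : Fin 4060) ⊓ centralizer {ea}) :=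
  AM.pre_of_preOK' validA (fun _ _ _ hf h1 h2 => ⟨⟨fn_fix hf h2 0, fn_fix hf h2 16⟩,
    mem_centralizer_singleton_iff.2 (cmt_sound fn_ea hf h1).symm⟩) cPs

theorem prod_pCs : AM.prodS (pCs.map LvC.L) = 20480 := by decide +kernel

theorem inv_cen {y : PR} (h1 : y * ea = ea * y) (h2 : y * ef = ef * y) (h3 : y * y = 1) : y = 1 ∨ y = ea := by
  have E := (exP.mono inf_le_left).ex (by rw [card_P0, prod_pCs])
  have E1 : AP.Ex (tlS.map TL.L) ⊤ := ⟨chain.2.1, chain.2.2.1, chain.2.2.2.1, by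
    rw [top_inf_eq]; exact ⟨exA.1, exA.2.1, exA.2.2.1, E⟩⟩
  obtain ⟨ga, -, ha, -⟩ := validS.wf 39
  obtain ⟨gf, -, hf, -⟩ := validS.wf 47
  have a : ∃ g, Commute y g ∧ AP.Fn g (wF lkR tS 39) :=
    ⟨ga, baseP.eq ha fn_ea (run_eq lkR tS 39 ▸ cAF.2.2.2.2.2.2.1) ▸ h1, ha⟩
  have b : ∃ g, Commute y g ∧ AP.Fn g (wF lkR tS 47) :=
    ⟨gf, baseP.eq hf fn_ef (run_eq lkR tS 47 ▸ cAF.2.2.2.2.2.2.2) ▸ h2, hf⟩
  obtain ⟨f, _, _, _, hy, h⟩ := AM.t1_sound' validS (c := y) (cs := tlS) (by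
    simp only [tlS, List.forall_mem_cons, List.not_mem_nil, false_imp_iff, implies_true, and_true]
    exact ⟨⟨a, b⟩, ⟨a, b⟩, b⟩) E1 (prev := []) (by simp) (by simp) AM.Fn.one
    (inv_one (G := PR) ▸ AM.Fn.one) trivial cT1S
  rw [leafS, bimp_iff, Bool.and_eq_true, Bool.or_eq_true] at h
  exact (h ⟨agree_of_eq (hy.mul hy) AM.Fn.one h3, agree_of_eq (hy.mul fn_ef) (fn_ef.mul hy) h2⟩).imp
    (baseP.eq hy AM.Fn.one) (baseP.eq hy fn_ea)

theorem not_dvd_cen : ¬ 5 ^ 2 ∣ Nat.card (centralizer {ea}) := fun h => by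
  have := Fact.mk Nat.prime_five
  have mf : ef ∈ centralizer {ea} := mem_centralizer_singleton_iff.2 ea_ef.symm
  obtain ⟨V, h1, h2⟩ := Sylow.exists_subgroup_card_pow_succ h (H := zpowers ⟨ef, mf⟩)
    (by rw [Nat.card_zpowers, ← orderOf_coe, order_ef]; rfl)
  have c := (IsPGroup.commGroupOfCardEqPrimeSq h1).mul_comm
  have key : ∀ v : V, ∀ x : Fin 4060, x = 0 ∨ x = 16 → v.1.1 • x = 0 ∨ v.1.1 • x = 16 := fun v x hx => by
    have e1 := all2_iff.1 cFx _ (v.1.1 • x : Fin 4060).2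
    simp only [force_eq, bimp_iff, beq_iff, anyL_iff, List.mem_cons, List.not_mem_nil, or_false,
      exists_eq_or_imp, exists_eq_left] at e1
    have e2 : ef * v.1.1 = v.1.1 * ef := congrArg (fun g : V => g.1.1) (c ⟨_, h2 (mem_zpowers _)⟩ v)
    have hx' : x.1 ∈ [0, 16] := by rcases hx with rfl | rfl <;> decide
    exact (e1 (by
      rw [← fn_val fn_ea, ← mul_smul, ← mem_centralizer_singleton_iff.1 v.1.2, mul_smul,
        fn_fix fn_ea cAF.2.2.2.2.1 x hx']) (by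
      rw [← fn_val fn_ef, ← mul_smul, e2, mul_smul, fn_fix fn_ef cAF.2.2.2.2.2.1 x hx'])).imp Fin.ext Fin.ext
  have h3 : V.map (Subgroup.subtype _) ≤ HH ⊓ stabilizer PR (16 : Fin 4060) := by
    rintro _ ⟨v, hv, rfl⟩
    have e : (v : PR) = ((v : PR) * v) ^ 13 := by
      have : (⟨v, hv⟩ : V) ^ 25 = 1 := (show 5 ^ (1 + 1) = 25 from rfl) ▸ h1 ▸ pow_card_eq_one'
      have e1 : (v : PR) ^ 25 = 1 := congrArg (fun g : V => g.1.1) this
      rw [← sq, ← pow_mul, show 2 * 13 = 25 + 1 from rfl, pow_succ, e1, one_mul]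
    have n : (v : PR) • (0 : Fin 4060) ≠ (v : PR) • 16 := (MulAction.injective _).ne (by decide)
    have a := key ⟨v, hv⟩ 0 (.inl rfl)
    have b := key ⟨v, hv⟩ 16 (.inr rfl)
    rw [subtype_apply, e]
    change (v : PR) • (0 : Fin 4060) = 0 ∨ (v : PR) • (0 : Fin 4060) = 16 at a
    change (v : PR) • (16 : Fin 4060) = 0 ∨ (v : PR) • (16 : Fin 4060) = 16 at b
    refine pow_mem (mem_inf.2 ⟨?_, ?_⟩) _ <;> rw [mem_stabilizer_iff, mul_smul] <;>
      rcases a with a | a <;> rcases b with b | b <;>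
      first | exact absurd (a.trans b.symm) n | rw [a, a] | rw [a, b] | rw [b, b] | rw [b, a]
  have h4 := card_dvd_of_le h3
  rw [card_map_of_injective (Subgroup.subtype_injective _), h1, card_P0] at h4
  omega

theorem cen_five {g y : PR} (h1 : g * ea = ea * g) (h2 : g ^ 5 = 1) (h3 : g ≠ 1) (h4 : y * ea = ea * y)
    (h5 : y * g = g * y) (h6 : y * y = 1) : y = 1 ∨ y = ea := by
  have := Fact.mk Nat.prime_five
  obtain ⟨s, k, k5, k0, e⟩ := exists_conj_pow Nat.prime_five not_dvd_cen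
    (x := ⟨ef, mem_centralizer_singleton_iff.2 ea_ef.symm⟩) (y := ⟨g, mem_centralizer_singleton_iff.2 h1⟩)
    (by rw [← orderOf_coe, order_ef]) (by rw [← orderOf_coe, orderOf_eq_prime h2 h3])
  have e1 : (s : PR) * g * (s : PR)⁻¹ = ef ^ k := congrArg Subtype.val e
  have hs := mem_centralizer_singleton_iff.1 s.2
  generalize (s : PR) = s at e1 hs
  have c1 : Commute (s * y * s⁻¹) (ef ^ k) := e1 ▸ Commute.conj h5 s
  have c2 : Commute (s * y * s⁻¹) ef := by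
    have := c1.pow_right (k ^ 3)
    rwa [← pow_mul, ← pow_mod_orderOf, order_ef, show k * k ^ 3 % 5 = 1 by interval_cases k <;> simp_all,
      pow_one] at this
  have e2 : s * ea * s⁻¹ = ea := mul_inv_eq_iff_eq_mul.2 hs
  refine (inv_cen (e2 ▸ Commute.conj h4 s) c2 (by rw [conj_mul, h6]; group)).imp conj_eq_one_iff.1 fun h => ?_
  rw [← e2] at h
  exact mul_left_cancel (mul_right_cancel h)

end Cfsg.Agent.H57Ru
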