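/-
SL(2,16) on 17 points (generated by tools_h56/model.py).
-/
import Cfsg.Agent.H56.ClassModel
import Cfsg.Agent.H56.Fields
import Cfsg.Agent.H56.IsoK

set_option autoImplicit false

namespace Cfsg.Agent.H57.SL216

open H14 H56

def VT : ℕ := nat_lit 0xe181411061a1d1c151b17111213191f101
def R : BT := (.node (nat_lit 113) (.node (nat_lit 49) (.node (nat_lit 17) (.node (nat_lit 16) (.leaf (nat_lit 0)) (.leaf (nat_lit 13))) (.node (nat_lit 33) (.leaf (nat_lit 5)) (.leaf (nat_lit 4)))) (.node (nat_lit 81) (.node (nat_lit 65) (.leaf (nat_lit 3)) (.leaf (nat_lit 14))) (.node (nat_lit 97) (.leaf (nat_lit 8)) (.leaf (nat_lit 12))))) (.node (nat_lit 177) (.node (nat_lit 145) (.node (nat_lit 129) (.leaf (nat_lit 6)) (.leaf (nat_lit 15))) (.node (nat_lit 161) (.leaf (nat_lit 2)) (.leaf (nat_lit 11)))) (.node (nat_lit 209) (.node (nat_lit 193) (.leaf (nat_lit 7)) (.leaf (nat_lit 9))) (.node (nat_lit 225) (.leaf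 (nat_lit 10)) (.node (nat_lit 241) (.leaf (nat_lit 16)) (.leaf (nat_lit 1)))))))
def gs : List (ℕ × ℕ) := [(nat_lit 0xfb47, nat_lit 0xe588c9811ed6014839461), (nat_lit 0xff5d, nat_lit 0xa3c06d63d0e2ac0909882)]
def gens : List ℕ := [nat_lit 0xe588c9811ed6014839461, nat_lit 0xa3c06d63d0e2ac0909882]
def certL0 : Lev := ⟨nat_lit 0, nat_lit 0x1ffff, (.node (nat_lit 8) (.node (nat_lit 4) (.node (nat_lit 2) (.node (nat_lit 1) (.leaf (nat_lit 0x107b9ac5a928398a418820)) (.leaf (nat_lit 0xb788c5541ac7250119c04))) (.node (nat_lit 3) (.leaf (nat_lit 0x4638e64ada25402f18105)) (.leaf (nat_lit 0xa6ad8e7a0a1198f000889)))) (.node (nat_lit 6) (.node (nat_lit 5) (.leaf (nat_lit 0xa11070299c159da07a12c)) (.leaf (nat_lit 0xa3c06d63d0e2ac0909882))) (.node (nat_lit 7) (.leaf (nat_lit 0xe588c9811ed6014839461)) (.leaf (nat_lit 0xf2a82369dd00304822d26))))) (.node (nat_lit 12) (.node (nat_lit 10) (.node (nat_lit 9) (.leaf (nat_lit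 0x57282b1360078d0649187)) (.leaf (nat_lit 0xd795215b80a408f060cc4))) (.node (nat_lit 11) (.leaf (nat_lit 0x511d240814f30d70435cc)) (.leaf (nat_lit 0x10220ec024a21bd466b961)))) (.node (nat_lit 14) (.node (nat_lit 13) (.leaf (nat_lit 0x8489807c0c52386b385aa)) (.leaf (nat_lit 0x28140f721664848d628e3))) (.node (nat_lit 15) (.leaf (nat_lit 0xe4820d23d873156250468)) (.node (nat_lit 16) (.leaf (nat_lit 0x703c811960a134ce4b10b)) (.leaf (nat_lit 0x204ac709306a1e732d43)))))))⟩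
def certC0 : LevCert := ⟨certL0,
    [(nat_lit 6, nat_lit 0), (nat_lit 5, nat_lit 1), (nat_lit 13, nat_lit 0), (nat_lit 2, nat_lit 1), (nat_lit 7, nat_lit 1), (nat_lit 8, nat_lit 0), (nat_lit 12, nat_lit 1), (nat_lit 14, nat_lit 0), (nat_lit 3, nat_lit 0), (nat_lit 15, nat_lit 1), (nat_lit 4, nat_lit 0), (nat_lit 9, nat_lit 1), (nat_lit 11, nat_lit 1), (nat_lit 16, nat_lit 0), (nat_lit 1, nat_lit 0), (nat_lit 10, nat_lit 1)],
    [[nat_lit 0, nat_lit 0, nat_lit 2, nat_lit 2, nat_lit 0, nat_lit 0, nat_lit 2, nat_lit 0, nat_lit 0, nat_lit 0, nat_lit 2], [nat_lit 2, nat_lit 2, nat_lit 4, nat_lit 2, nat_lit 2, nat_lit 2, nat_lit 2]],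
    [nat_lit 0xc2b5e72393052cc208d00, nat_lit 0x100ace81b84d7918a494c0]⟩
def certL1 : Lev := ⟨nat_lit 1, nat_lit 0x1fffe, (.node (nat_lit 9) (.node (nat_lit 5) (.node (nat_lit 3) (.node (nat_lit 2) (.leaf (nat_lit 0x107b9ac5a928398a418820)) (.leaf (nat_lit 0x733caa1352c7116340600))) (.node (nat_lit 4) (.leaf (nat_lit 0xc2b5e72393052cc208d00)) (.leaf (nat_lit 0xa594ce1bd276888182180)))) (.node (nat_lit 7) (.node (nat_lit 6) (.leaf (nat_lit 0x5120ed32870238297ad80)) (.leaf (nat_lit 0x103a9057106c684465a5e0))) (.node (nat_lit 8) (.leaf (nat_lit 0x1030ded4aca70a90e13080)) (.leaf (nat_lit 0x86a9d031d21615eb11060))))) (.node (nat_lit 13) (.node (nat_lit 11) (.node (nat_lit 10) (.leaf (nat_lit 0x7809cc43c2530d4d4ac80)) (.leaf (nat_lit 0xf81568684cc225c710d40))) (.node (nat_lit 12) (.leaf (nat_lit 0xc411500b46f288ee49960)) (.leaf (nat_lit 0xd43cc170cb05a54c208e0)))) (.node (nat_lit 15) (.node (nat_lit 14) (.leaf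 (nat_lit 0x861c2f52c5070c85325a0)) (.leaf (nat_lit 0xc584af490ca43a0d19c40))) (.node (nat_lit 16) (.leaf (nat_lit 0x100ace81b84d7918a494c0)) (.leaf (nat_lit 0x15190b63cad1b92239200))))))⟩
def certC1 : LevCert := ⟨certL1,
    [(nat_lit 3, nat_lit 0), (nat_lit 15, nat_lit 1), (nat_lit 2, nat_lit 0), (nat_lit 11, nat_lit 1), (nat_lit 13, nat_lit 0), (nat_lit 7, nat_lit 1), (nat_lit 4, nat_lit 0), (nat_lit 9, nat_lit 1), (nat_lit 6, nat_lit 0), (nat_lit 14, nat_lit 1), (nat_lit 8, nat_lit 1), (nat_lit 12, nat_lit 0), (nat_lit 5, nat_lit 0), (nat_lit 10, nat_lit 0), (nat_lit 16, nat_lit 0)],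
    [[nat_lit 0, nat_lit 2, nat_lit 2, nat_lit 2, nat_lit 2, nat_lit 0, nat_lit 0, nat_lit 2], [nat_lit 4, nat_lit 2, nat_lit 2, nat_lit 4, nat_lit 4, nat_lit 4, nat_lit 4]],
    [nat_lit 0x263c65439aa21d2b81820, nat_lit 0xf39944189104956d73020]⟩
def certL2 : Lev := ⟨nat_lit 2, nat_lit 0x1fffc, (.node (nat_lit 9) (.node (nat_lit 5) (.node (nat_lit 3) (.leaf (nat_lit 0x107b9ac5a928398a418820)) (.node (nat_lit 4) (.leaf (nat_lit 0x62b20953c6e591a811c20)) (.leaf (nat_lit 0x942d8a311e780dc22b420)))) (.node (nat_lit 7) (.node (nat_lit 6) (.leaf (nat_lit 0xb1b4f0624c57284f22020)) (.leaf (nat_lit 0x37292f220ab309876c020))) (.node (nat_lit 8) (.leaf (nat_lit 0xd520ae3ad84141e648c20)) (.leaf (nat_lit 0xc21dcb819426a50379420))))) (.node (nat_lit 13) (.node (nat_lit 11) (.node (nat_lit 10) (.leaf (nat_lit 0x46a4c37944c5220e3ac20)) (.leaf (nat_lit 0xf39944189104956d73020))) (.node (nat_lit 12) (.leaf (nat_lit 0x5591e811dc61b55062420))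 (.leaf (nat_lit 0x880c822b4e97b8cc5a820)))) (.node (nat_lit 15) (.node (nat_lit 14) (.leaf (nat_lit 0x74944d7320f42c6a31020)) (.leaf (nat_lit 0xe309076c1632b08953c20))) (.node (nat_lit 16) (.leaf (nat_lit 0xa1416648c8d63ce543820)) (.leaf (nat_lit 0x263c65439aa21d2b81820))))))⟩
def certC2 : LevCert := ⟨certL2,
    [(nat_lit 16, nat_lit 0), (nat_lit 10, nat_lit 1), (nat_lit 3, nat_lit 0), (nat_lit 8, nat_lit 1), (nat_lit 13, nat_lit 1), (nat_lit 11, nat_lit 1), (nat_lit 9, nat_lit 1), (nat_lit 4, nat_lit 1), (nat_lit 5, nat_lit 1), (nat_lit 7, nat_lit 1), (nat_lit 12, nat_lit 1), (nat_lit 6, nat_lit 1), (nat_lit 15, nat_lit 1), (nat_lit 14, nat_lit 1)],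
    [],
    []⟩
def cert : List LevCert := [certC0, certC1, certC2]
def certL : List Lev := [certL0, certL1, certL2]
/-- the numbering of the points -/
abbrev E : Enc (Fin 17) 17 5 32 := finEnc 17 5 32 rfl (by decide)
theorem ok : modelOK F16 2 17 5 32 VT R true gs cert 4080 = true := by
  decide +kernel

/-- the permutation group -/
abbrev K : Subgroup (Equiv.Perm (Fin 17)) := E.grp gens

theorem model {F : Type*} [Field F] [Fintype F] (hF : Fintype.card F = 16) (ι : TF F16 →+* F) :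
    ∃ φ, IsModel E (slToMat 2 F) (ptv ι (Equiv.refl _) E VT) true ⊥ gens certL φ :=
  model_SL ι E hF (m := 16) (by decide) ok (by decide +kernel) (by decide +kernel)

theorem equiv {F : Type*} [Field F] [Fintype F] (hF : Fintype.card F = 16) : Nonempty (Matrix.SpecialLinearGroup (Fin 2) F ≃* K) :=
  let ⟨ι, _⟩ := exists_hom F16 hF; let ⟨_, h⟩ := model hF ι; h.equiv

theorem chain : E.IsChain certL K := let ⟨_, h⟩ := model (TF.card F16) (RingHom.id _); h.chain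

theorem card : Nat.card K = 4080 := chain.card.trans (modelOK_card ok)

def c1a : Cls := ⟨nat_lit 0x107b9ac5a928398a418820, 4080, [nat_lit 0x1ffff, nat_lit 0x1fffe, nat_lit 0x1fffc]⟩
def c2a : Cls := ⟨nat_lit 0x673c8a4b1651c10d38801, 16, [nat_lit 0x1fffb, nat_lit 2, nat_lit 4]⟩
def c3a : Cls := ⟨nat_lit 0xd1a96f81c88724a660041, 15, [nat_lit 0x1fedf, nat_lit 2, nat_lit 4]⟩
def c5a : Cls := ⟨nat_lit 0x1062dcd7912551c0332041, 15, [nat_lit 0xfdff, nat_lit 2, nat_lit 4]⟩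
def c5b : Cls := ⟨nat_lit 0xf339506a4e05910c19441, 15, [nat_lit 0x1bff7, nat_lit 2, nat_lit 4]⟩
def c15a : Cls := ⟨nat_lit 0xa4810e5b60c2bcc438c41, 15, [nat_lit 0x1f7ef, nat_lit 2, nat_lit 4]⟩
def c15b : Cls := ⟨nat_lit 0x65912c1940f3a1aa74041, 15, [nat_lit 0x1ef7f, nat_lit 2, nat_lit 4]⟩
def c15c : Cls := ⟨nat_lit 0x92bda438d8a8196803841, 15, [nat_lit 0x1dfbf, nat_lit 2, nat_lit 4]⟩
def c15d : Cls := ⟨nat_lit 0x78d8542967338906a441, 15, [nat_lit 0x17bff, nat_lit 2, nat_lit 4]⟩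
def c17a : Cls := ⟨nat_lit 0x4441e74986e6b1402ac41, 17, [nat_lit 0x1ffff, nat_lit 2, nat_lit 4]⟩
def c17b : Cls := ⟨nat_lit 0xb3a0aa741e60346923041, 17, [nat_lit 0x1ffff, nat_lit 2, nat_lit 4]⟩
def c17c : Cls := ⟨nat_lit 0x5818680394962ced79041, 17, [nat_lit 0x1ffff, nat_lit 2, nat_lit 4]⟩
def c17d : Cls := ⟨nat_lit 0xc51c83320b0481ee5b441, 17, [nat_lit 0x1ffff, nat_lit 2, nat_lit 4]⟩
def c17e : Cls := ⟨nat_lit 0x65412562c67209cf4040d, 17, [nat_lit 0x1ffff, nat_lit 2, nat_lit 4]⟩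
def c17f : Cls := ⟨nat_lit 0x86b0c02adc41a92f81c41, 17, [nat_lit 0x1ffff, nat_lit 2, nat_lit 4]⟩
def c17g : Cls := ⟨nat_lit 0x703609230cb78dc542841, 17, [nat_lit 0x1ffff, nat_lit 2, nat_lit 4]⟩
def c17h : Cls := ⟨nat_lit 0x3724e66010d2160b53c41, 17, [nat_lit 0x1ffff, nat_lit 2, nat_lit 4]⟩
def cl : List Cls := [c1a, c2a, c3a, c5a, c5b, c15a, c15b, c15c, c15d, c17a, c17b, c17c, c17d, c17e, c17f, c17g, c17h]
theorem cl_ok : allL cl (clsOK 5 32 17 certL 0) = true := by decide +kernel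
theorem cl_pairs : pairsOK 5 32 17 certL 0 cl = true := by decide +kernel
/-- the conjugacy classes -/
theorem classes : E.ClassList K cl :=
  chain.classList (E.fixes_zero K) (allL_iff.1 cl_ok) cl_pairs card (by decide +kernel)

end Cfsg.Agent.H57.SL216
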